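import Cfsg.Agent.Lib.Lead.PGV.Regular
import Cfsg.Agent.Lib.Solv.Zipper
import Cfsg.Agent.Lib.Solv.Cores
import Cfsg.Agent.Lib.LocalEven.LargeBasic

/-!
# Two components swapped by an involution, with a quadratic group: the final configuration
-/

set_option autoImplicit false
open scoped commutatorElement Pointwise

namespace Cfsg.Agent.PGV

universe u v

/-- In a group of odd order the fixed points of the three involutions of a four-group generate. -/
theorem four_generation {Q : Type u} [Group Q] [Finite Q] (hodd : Odd (Nat.card Q)) (β δ : MulAut Q)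
    (hβ : β * β = 1) (hδ : δ * δ = 1) (hβδ : Commute β δ) (S : Subgroup Q)
    (h1 : ∀ x, β x = x → x ∈ S) (h2 : ∀ x, δ x = x → x ∈ S) (h3 : ∀ x, β (δ x) = x → x ∈ S) (x : Q) :
    x ∈ S := by
  obtain ⟨j, hj⟩ := hodd
  have hsq : ∀ y : Q, (y ^ (j + 1)) * (y ^ (j + 1)) = y := fun y => by
    rw [← pow_add, show j + 1 + (j + 1) = Nat.card Q + 1 by omega, pow_succ, pow_card_eq_one', one_mul]
  have hinj : ∀ y z : Q, y * y = z * z → y = z := fun y z h => by
    calc y = (y * y) ^ (j + 1) := ((Commute.refl y).mul_pow _).trans (hsq y) |>.symm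
      _ = (z * z) ^ (j + 1) := by rw [h]
      _ = z := ((Commute.refl z).mul_pow _).trans (hsq z)
  have hββ : ∀ y, β (β y) = y := fun y => by rw [← MulAut.mul_apply, hβ, MulAut.one_apply]
  have hδδ : ∀ y, δ (δ y) = y := fun y => by rw [← MulAut.mul_apply, hδ, MulAut.one_apply]
  have hc : ∀ y, β (δ y) = δ (β y) := fun y => by rw [← MulAut.mul_apply, hβδ.eq, MulAut.mul_apply]
  -- inverted elements lie in `S`
  have hI : ∀ s, β s = s⁻¹ → s ∈ S := by
    intro s hs
    have hδs : β (δ s) = (δ s)⁻¹ := by rw [hc, hs, map_inv]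
    set h := (δ s) ^ (j + 1) with hh
    have hh2 : h * h = δ s := hsq _
    have hβh : β h = h⁻¹ := by rw [hh, map_pow, hδs, inv_pow]
    clear_value h
    set q := (h⁻¹ * s * h⁻¹) ^ (j + 1) with hq
    have hq2 : q * q = h⁻¹ * s * h⁻¹ := hsq _
    have hβq : β q = q⁻¹ := by
      rw [hq, map_pow, ← inv_pow]
      congr 1
      simp only [map_mul, map_inv, hβh, hs, mul_inv_rev, inv_inv, mul_assoc]
    set U := h * q * h with hU
    have heq : U * (δ s)⁻¹ * U = s := by
      rw [← hh2, hU]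
      calc h * q * h * (h * h)⁻¹ * (h * q * h) = h * (q * q) * h := by group
        _ = s := by rw [hq2]; group
    have hδU : δ U = U := by
      have e : δ U * (δ s)⁻¹ * δ U = s := by
        have e' := congrArg (fun y => (δ y)⁻¹) heq
        simp only [map_mul, map_inv, hδδ, mul_inv_rev, inv_inv] at e'
        calc δ U * (δ s)⁻¹ * δ U = δ U * ((δ U)⁻¹ * (s * (δ U)⁻¹)) * δ U := by rw [e']
          _ = s := by group
      have key : ∀ W, W * (δ s)⁻¹ * W = s → (h⁻¹ * W * h⁻¹) * (h⁻¹ * W * h⁻¹) = h⁻¹ * s * h⁻¹ :=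
        fun W hW => by
          calc (h⁻¹ * W * h⁻¹) * (h⁻¹ * W * h⁻¹) = h⁻¹ * (W * (h * h)⁻¹ * W) * h⁻¹ := by group
            _ = _ := by rw [hh2, hW]
      have h' := hinj _ _ ((key _ e).trans (key _ heq).symm)
      exact mul_left_cancel (mul_right_cancel h')
    have hβU : β U = U⁻¹ := by rw [hU, map_mul, map_mul, hβh, hβq]; group
    set u := U ^ (j + 1) with hu
    have hu2 : u * u = U := hsq _
    have huS : u ∈ S := h2 u (by rw [hu, map_pow, hδU])
    have hvS : u⁻¹ * s * u⁻¹ ∈ S := h3 _ (by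
      have hδu : δ u = u := by rw [hu, map_pow, hδU]
      have hβu : β u = u⁻¹ := by rw [hu, map_pow, hβU, inv_pow]
      simp only [map_mul, map_inv, hδu, hβu, hδs, inv_inv]
      calc u * (δ s)⁻¹ * u = u⁻¹ * (U * (δ s)⁻¹ * U) * u⁻¹ := by rw [← hu2]; group
        _ = _ := by rw [heq])
    have e : s = u * (u⁻¹ * s * u⁻¹) * u := by group
    rw [e]
    exact mul_mem (mul_mem huS hvS) huS
  set y := x⁻¹ * β x with hy
  have hβy : β y = y⁻¹ := by rw [hy, map_mul, map_inv, hββ]; group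
  set s := y ^ (j + 1) with hs
  have hβs : β s = s⁻¹ := by rw [hs, map_pow, hβy, inv_pow]
  have hfix : β (x * s) = x * s := by
    rw [map_mul, hβs]
    calc β x * s⁻¹ = x * y * s⁻¹ := by rw [hy]; group
      _ = x * (s * s) * s⁻¹ := by rw [hsq]
      _ = _ := by group
  have := mul_mem (h1 _ hfix) (inv_mem (hI s hβs))
  rwa [mul_inv_cancel_right] at this

variable {G : Type u} [Group G] {M : Type v} [AddCommGroup M] (ψ : G →* AddMonoid.End M)

/-- `K` and its conjugate by `a` act with fixed-point-free odd elements; `N` is quadratic. -/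
structure Conf (K N : Subgroup G) (a : G) : Prop where
  two : ∀ m : M, 2 • m = 0
  qs : QS K
  ne : ∃ k ∈ K, ψ k ≠ 1
  aa : a * a = 1
  comm : ∀ x ∈ K, ∀ y ∈ K, Commute (a * x * a⁻¹) y
  fpf : ∀ k ∈ K, k ∉ Subgroup.centralizer (K : Set G) → Odd (orderOf k) → ∀ v, ψ k v = v → v = 0
  ztriv : ∀ z ∈ K, z ∈ Subgroup.centralizer (K : Set G) → (∃ e, orderOf z = 2 ^ e) → ψ z = 1
  nsq : ∀ n ∈ N, n * n = 1
  ncomm : ∀ n ∈ N, ∀ m ∈ N, Commute n m
  na : ∀ n ∈ N, Commute n a
  nnorm : N ≤ Subgroup.normalizer (K : Set G)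
  nfaith : ∀ n ∈ N, n ≠ 1 → n ∉ Subgroup.centralizer (K : Set G)
  quad : ∀ n ∈ N, ∀ m ∈ N, (ψ n - 1) * (ψ m - 1) = 0

namespace Conf

variable {ψ} {K N : Subgroup G} {a : G} (C : Conf ψ K N a)

include C

theorem nontrivial : Nontrivial M := by
  obtain ⟨k, -, hk⟩ := C.ne
  by_contra h
  rw [not_nontrivial_iff_subsingleton] at h
  exact hk (AddMonoidHom.ext fun m => Subsingleton.elim _ _)

theorem neg_eq (m : M) : -m = m := by
  rw [neg_eq_iff_add_eq_zero, ← two_nsmul]; exact C.two m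

theorem sq_sub_one {e : G} (he : ψ e * ψ e = 1) (v : M) : ψ e (ψ e v - v) = ψ e v - v := by
  rw [map_sub, ← end_mul, he, end_one, sub_eq_iff_eq_add]
  have h := C.neg_eq (ψ e v - v)
  rw [neg_sub] at h
  rw [← h]; abel

/-- An involution acting nontrivially on `K` modulo the centre has fixed points of order `√|M|`. -/
theorem half [Finite G] [Finite M] {e : G} (hn : e ∈ Subgroup.normalizer (K : Set G))
    (he : ψ e * ψ e = 1) (hc : e ∉ Subgroup.centralizer (K : Set G)) :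
    Nat.card (fix1 ψ e) ^ 2 = Nat.card M ∧
      (∀ w ∈ fix1 ψ e, ∃ v, ψ e v - v = w) := by
  classical
  set ν := K.normalizerMonoidHom with hν
  have hνeq : ∀ (g : G) (hg : g ∈ Subgroup.normalizer (K : Set G)) (x : K),
      ((ν ⟨g, hg⟩ x : K) : G) = g * x * g⁻¹ := fun g hg x => rfl
  have hν1 : ∀ (g : G) (hg : g ∈ Subgroup.normalizer (K : Set G)),
      ν ⟨g, hg⟩ = 1 ↔ g ∈ Subgroup.centralizer (K : Set G) := fun g hg => by
    rw [← MonoidHom.mem_ker, hν, Subgroup.normalizerMonoidHom_ker, Subgroup.mem_subgroupOf]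
  have hee : e * e ∈ Subgroup.centralizer (K : Set G) :=
    C.qs.mem_centralizer_of_image_comm ψ C.ne (mul_mem hn hn) fun k _ => by
      rw [map_mul, he]; exact Commute.one_left _
  set H : Subgroup G := Subgroup.zpowers e ⊔ K with hH
  have hHn : H ≤ Subgroup.normalizer (K : Set G) :=
    sup_le ((Subgroup.zpowers_le).2 hn) Subgroup.le_normalizer
  set f : H →* MulAut K := ν.comp (Subgroup.inclusion hHn) with hf
  set Γ := f.range with hΓ
  have heH : e ∈ H := Subgroup.mem_sup_left (Subgroup.mem_zpowers e)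
  let t : Γ := ⟨f ⟨e, heH⟩, ⟨_, rfl⟩⟩
  have ht : orderOf t = 2 := by
    refine orderOf_eq_prime (Subtype.ext ?_) fun h1 => hc ((hν1 e hn).1 (congrArg Subtype.val h1))
    show f ⟨e, heH⟩ ^ 2 = 1
    rw [← map_pow]
    refine (hν1 ((⟨e, heH⟩ : H) ^ 2 : H) (hHn ((⟨e, heH⟩ : H) ^ 2).2)).2 ?_
    rwa [SubgroupClass.coe_pow, pow_two]
  have hO : t ∉ Cfsg.pCore 2 Γ := by
    intro htO
    haveI hOn := Solv.pCore_normal (G := Γ) 2
    haveI : Fact (Nat.Prime 2) := ⟨Nat.prime_two⟩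
    have hOp := Solv.pCore_isPGroup (G := Γ) 2
    let inn : K →* Γ := f.rangeRestrict.comp (Subgroup.inclusion (le_sup_right : K ≤ H))
    set N' : Subgroup G := ((Cfsg.pCore 2 Γ).comap inn).map K.subtype with hN'
    have hN'mem : ∀ x : K, inn x ∈ Cfsg.pCore 2 Γ → (x : G) ∈ N' := fun x hx => ⟨x, hx, rfl⟩
    rcases C.qs.simple N' (Subgroup.map_subtype_le _) (by
      rintro g hg _ ⟨x, hx, rfl⟩
      refine hN'mem (⟨g, hg⟩ * x * ⟨g, hg⟩⁻¹) ?_
      rw [map_mul, map_mul, map_inv]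
      exact hOn.conj_mem _ hx _) with h1 | h1
    · refine hc (C.qs.central_of_comm hn fun k hk => h1 ?_)
      have hk' : e * k * e⁻¹ * k⁻¹ ∈ K :=
        mul_mem ((Subgroup.mem_normalizer_iff.1 hn k).1 hk) (inv_mem hk)
      rw [commutatorElement_def]
      refine hN'mem ⟨_, hk'⟩ ?_
      have e1 : inn ⟨_, hk'⟩ = t * (inn ⟨k, hk⟩ * t⁻¹ * (inn ⟨k, hk⟩)⁻¹) := by
        apply Subtype.ext
        show f _ = f _ * (f _ * (f _)⁻¹ * (f _)⁻¹)
        rw [← map_inv, ← map_inv, ← map_mul, ← map_mul, ← map_mul]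
        congr 1
        apply Subtype.ext
        show e * k * e⁻¹ * k⁻¹ = e * (k * e⁻¹ * k⁻¹)
        group
      rw [e1]
      exact mul_mem htO (hOn.conj_mem _ (inv_mem htO) _)
    · have hall : ∀ x : K, inn x ∈ Cfsg.pCore 2 Γ := fun x => by
        obtain ⟨y, hy, hyx⟩ := h1.ge x.2
        rw [← Subtype.ext hyx]; exact hy
      have hI : IsPGroup 2 inn.range := hOp.to_le (by rintro _ ⟨x, rfl⟩; exact hall x)
      haveI := hI.isNilpotent
      obtain ⟨x, hx, hxc⟩ := SetLike.not_le_iff_exists.1 C.qs.noncomm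
      haveI : Nontrivial inn.range := ⟨⟨⟨inn ⟨x, hx⟩, _, rfl⟩, 1, fun h => hxc
        ((hν1 x (Subgroup.le_normalizer hx)).1 (congrArg (fun z : inn.range => ((z : Γ) : MulAut K)) h))⟩⟩
      have hperf : ⁅(⊤ : Subgroup inn.range), (⊤ : Subgroup inn.range)⁆ = ⊤ := by
        apply Subgroup.map_injective inn.range.subtype_injective
        have hK : ⁅(⊤ : Subgroup K), (⊤ : Subgroup K)⁆ = ⊤ := by
          apply Subgroup.map_injective K.subtype_injective
          rw [Subgroup.map_commutator, ← MonoidHom.range_eq_map, Subgroup.range_subtype, C.qs.perfect]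
        rw [Subgroup.map_commutator, ← MonoidHom.range_eq_map, Subgroup.range_subtype,
          MonoidHom.range_eq_map, ← Subgroup.map_commutator, hK]
      exact hperf.not_lt (Group.IsSolvable.commutator_lt_top_of_nontrivial inn.range)
  obtain ⟨h, hh1, hhodd, hhinv⟩ := Solv.exists_odd_inverted ht hO
  obtain ⟨⟨g, hg⟩, hgh⟩ := h.2
  -- the commutator with `e`
  have hgK : g * e * g⁻¹ * e⁻¹ ∈ K := by
    have hg' : g ∈ ((Subgroup.zpowers e : Set G) * (K : Set G)) := by
      rw [← Subgroup.coe_mul_of_left_le_normalizer_right _ _ ((Subgroup.zpowers_le).2 hn)]; exact hg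
    obtain ⟨y, hy, k, hk, rfl⟩ := hg'
    obtain ⟨i, rfl⟩ := Subgroup.mem_zpowers_iff.1 hy
    have e1 : e ^ i * k * e * (e ^ i * k)⁻¹ * e⁻¹ =
        e ^ i * (k * (e * k⁻¹ * e⁻¹)) * (e ^ i)⁻¹ := by group
    show e ^ i * k * e * (e ^ i * k)⁻¹ * e⁻¹ ∈ K
    rw [e1]
    exact (Subgroup.mem_normalizer_iff.1 (zpow_mem hn i) _).1
      (mul_mem hk ((Subgroup.mem_normalizer_iff.1 hn _).1 (inv_mem hk)))
  set d := g * e * g⁻¹ * e⁻¹ with hd
  have hdH : d ∈ H := Subgroup.mem_sup_right hgK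
  have hfd : f ⟨d, hdH⟩ = ((h * h : Γ) : MulAut K) := by
    have e1 : h * h = h * t * h⁻¹ * t⁻¹ := by
      have h' : t * h⁻¹ * t⁻¹ = h := by
        have := congrArg (fun z => z⁻¹) hhinv
        simpa [mul_assoc] using this
      calc h * h = h * (t * h⁻¹ * t⁻¹) := by rw [h']
        _ = _ := by group
    rw [e1]
    show f _ = (h : MulAut K) * f ⟨e, heH⟩ * (h : MulAut K)⁻¹ * (f ⟨e, heH⟩)⁻¹
    rw [← hgh, ← map_inv, ← map_inv, ← map_mul, ← map_mul, ← map_mul]
    rfl
  set s := 2 ^ (orderOf d).factorization 2 with hs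
  have hkodd : Odd (orderOf (d ^ s)) := by
    rw [orderOf_pow_of_dvd (pow_ne_zero _ two_ne_zero) (Nat.ordProj_dvd _ _), ← Nat.not_even_iff_odd,
      even_iff_two_dvd]
    exact Nat.not_dvd_ordCompl Nat.prime_two (orderOf_pos d).ne'
  have hknc : d ^ s ∉ Subgroup.centralizer (K : Set G) := fun hcd => by
    have h0 := (hν1 _ (Subgroup.le_normalizer (pow_mem hgK s))).2 hcd
    have h1 : (h * h) ^ s = 1 := Subtype.ext (by
      show ((h * h : Γ) : MulAut K) ^ s = 1
      rw [← hfd, ← map_pow]; exact h0)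
    rw [← pow_two, ← pow_mul] at h1
    have h2 := orderOf_dvd_of_pow_eq_one h1
    rw [hs, ← pow_succ'] at h2
    obtain ⟨i, -, hi⟩ := (Nat.dvd_prime_pow Nat.prime_two).1 h2
    rcases i with _ | i
    · exact hh1 (orderOf_eq_one_iff.1 (by simpa using hi))
    · rw [hi] at hhodd
      exact absurd hhodd (Nat.not_odd_iff_even.2 ((Nat.even_pow).2 ⟨even_two, i.succ_ne_zero⟩))
  -- so the two fixed point groups meet trivially
  set X := fix1 ψ e with hX
  set Y := fix1 ψ (g * e * g⁻¹) with hY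
  have hXY : X ⊓ Y = ⊥ := by
    rw [eq_bot_iff]
    intro v hv
    have h1 : ψ e v = v := (mem_fix1 ψ).1 hv.1
    have h2 : ψ (g * e * g⁻¹) v = v := (mem_fix1 ψ).1 hv.2
    have h3 : ψ d v = v := by
      rw [hd, map_mul, end_mul]
      conv_lhs => arg 2; rw [← h1]
      rw [act_inv_cancel, h2]
    exact AddSubgroup.mem_bot.2 (C.fpf _ (pow_mem hgK s) hknc hkodd v (pow_act_fixed ψ h3 s))
  have hYc : Nat.card Y = Nat.card X := by
    refine (Nat.card_congr (Equiv.subtypeEquiv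
      (Equiv.ofBijective (ψ g) ⟨act_injective ψ g, fun w => ⟨ψ g⁻¹ w, act_cancel_inv ψ g w⟩⟩) ?_)).symm
    intro v
    show v ∈ X ↔ ψ g v ∈ Y
    rw [mem_fix1, mem_fix1, map_mul, map_mul, end_mul, end_mul, act_inv_cancel]
    exact (act_injective ψ g).eq_iff.symm
  have hle : Nat.card X ^ 2 ≤ Nat.card M := by
    have := card_inf_mul_sup X Y
    rw [hXY, AddSubgroup.card_bot, mul_one, hYc, ← pow_two] at this
    rw [this]
    exact Nat.le_of_dvd Nat.card_pos (AddSubgroup.card_addSubgroup_dvd_card _)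
  let D : M →+ M := ((ψ e - 1 : AddMonoid.End M))
  have hDker : D.ker = X := by
    ext v
    show ψ e v - v = 0 ↔ v ∈ X
    rw [sub_eq_zero, mem_fix1]
  have hDrange : D.range ≤ X := by
    rintro _ ⟨v, rfl⟩
    exact (mem_fix1 ψ).2 (C.sq_sub_one he v)
  have hcardM : Nat.card M = Nat.card D.range * Nat.card X := by
    rw [← hDker, AddSubgroup.card_eq_card_quotient_mul_card_addSubgroup D.ker,
      Nat.card_congr (QuotientAddGroup.quotientKerEquivRange D).toEquiv]
  have hge : Nat.card X ≤ Nat.card D.range := by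
    refine Nat.le_of_mul_le_mul_right (a := Nat.card X) ?_ (Nat.card_pos (α := X))
    rw [← hcardM, ← pow_two]; exact hle
  have heq := AddSubgroup.eq_of_le_of_card_ge hDrange hge
  refine ⟨?_, fun w hw => ?_⟩
  · rw [hcardM, heq, pow_two]
  · rw [← heq] at hw
    exact hw

theorem half_eq [Finite G] [Finite M] {e₁ e₂ : G} (h1 : Nat.card (fix1 ψ e₁) ^ 2 = Nat.card M)
    (h2 : Nat.card (fix1 ψ e₂) ^ 2 = Nat.card M)
    (hs : ∀ w ∈ fix1 ψ e₁, ∃ v, ψ e₁ v - v = w) (hq : (ψ e₂ - 1) * (ψ e₁ - 1) = 0) :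
    fix1 ψ e₁ = fix1 ψ e₂ := by
  refine AddSubgroup.eq_of_le_of_card_ge (fun w hw => ?_)
    ((Nat.pow_left_injective two_ne_zero (h2.trans h1.symm)).le)
  obtain ⟨v, rfl⟩ := hs w hw
  exact (mem_fix1 ψ).2 (sub_eq_zero.1 (DFunLike.congr_fun hq v))

end Conf

end Cfsg.Agent.PGV
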