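import Mathlib

/-!
# Groups acting by endomorphisms of a finite abelian group

Basic tools for the component theorem on best offenders: perfect subgroups that are simple modulo
their centre, fixed points, a coprime bound for abelian groups.
-/

set_option autoImplicit false
open scoped commutatorElement

namespace Cfsg.Agent.PGV

universe u v

/-! ### Perfect subgroups simple modulo the centre -/

section QS

variable {G : Type u} [Group G]

/-- `K` is perfect, noncentral in itself and its invariant subgroups are central or everything. -/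
structure QS (K : Subgroup G) : Prop where
  perfect : ⁅K, K⁆ = K
  noncomm : ¬ K ≤ Subgroup.centralizer (K : Set G)
  simple : ∀ N : Subgroup G, N ≤ K → (∀ g ∈ K, ∀ x ∈ N, g * x * g⁻¹ ∈ N) →
    N ≤ Subgroup.centralizer (K : Set G) ∨ N = K

theorem commutator_central_mul {a b g l : G} (hag : Commute a g) (hal : Commute a l)
    (hbg : Commute b g) (hbl : Commute b l) (hab : Commute a b) : ⁅a * g, b * l⁆ = ⁅g, l⁆ := by
  have e1 : a * g * (b * l) = a * b * (g * l) := by
    rw [mul_assoc, ← mul_assoc g, ← hbg.eq]; group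
  have e2 : b * l * (a * g) = a * b * (l * g) := by
    rw [mul_assoc, ← mul_assoc l, ← hal.eq, hab.eq]; group
  have e3 : ∀ p q : G, ⁅p, q⁆ = p * q * (q * p)⁻¹ := fun p q => by
    simp [commutatorElement_def, mul_assoc]
  rw [e3, e3, e1, e2, mul_inv_rev (a * b)]
  have hc : Commute (a * b) (g * l * (l * g)⁻¹) :=
    ((hag.mul_right hal).mul_left (hbg.mul_right hbl)).mul_right
      (((hal.mul_right hag).mul_left (hbl.mul_right hbg)).inv_right)
  calc a * b * (g * l) * ((l * g)⁻¹ * (a * b)⁻¹) = (a * b * (g * l * (l * g)⁻¹)) * (a * b)⁻¹ := by group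
    _ = g * l * (l * g)⁻¹ := by rw [hc.eq]; group

/-- A homomorphism from `K` into a commutative setting is trivial: the elements of `K` fix `x`. -/
theorem QS.central_of_comm {K : Subgroup G} (h : QS K) {x : G}
    (hxK : x ∈ Subgroup.normalizer (K : Set G))
    (hx : ∀ k ∈ K, ⁅x, k⁆ ∈ Subgroup.centralizer (K : Set G)) :
    x ∈ Subgroup.centralizer (K : Set G) := by
  have hK : ∀ k ∈ K, ⁅x, k⁆ ∈ K := fun k hk => by
    rw [commutatorElement_def]
    exact mul_mem ((Subgroup.mem_normalizer_iff.1 hxK k).1 hk) (inv_mem hk)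
  have hle : ⁅K, K⁆ ≤ Subgroup.centralizer ({x} : Set G) :=
    Subgroup.commutator_le.2 fun g hg l hl => by
    refine Subgroup.mem_centralizer_singleton_iff.2 ?_
    have cg : ∀ y ∈ K, Commute ⁅x, g⁆ y := fun y hy =>
      (Subgroup.mem_centralizer_iff.1 (hx g hg) y hy).symm
    have cl : ∀ y ∈ K, Commute ⁅x, l⁆ y := fun y hy =>
      (Subgroup.mem_centralizer_iff.1 (hx l hl) y hy).symm
    have e : x * ⁅g, l⁆ * x⁻¹ = ⁅g, l⁆ := by
      have e1 : x * ⁅g, l⁆ * x⁻¹ = ⁅⁅x, g⁆ * g, ⁅x, l⁆ * l⁆ := by
        simp [commutatorElement_def, mul_assoc]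
      rw [e1, commutator_central_mul (cg g hg) (cg l hl) (cl g hg) (cl l hl) (cg _ (hK l hl))]
    calc ⁅g, l⁆ * x = x * ⁅g, l⁆ * x⁻¹ * x := by rw [e]
      _ = x * ⁅g, l⁆ := by group
  refine Subgroup.mem_centralizer_iff.2 fun k hk => ?_
  exact Subgroup.mem_centralizer_singleton_iff.1 (hle (h.perfect.symm ▸ hk))

/-- A subgroup containing the commutators of `K` with a noncentral element contains `K`. -/
theorem QS.le_of_commutators {K : Subgroup G} (h : QS K) {k : G} (hk : k ∈ K)
    (hkc : k ∉ Subgroup.centralizer (K : Set G)) (S : Subgroup G)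
    (hS : ∀ g ∈ K, ⁅g, k⁆ ∈ S) : K ≤ S := by
  set N : Subgroup G := Subgroup.closure {c | ∃ g ∈ K, c = ⁅g, k⁆} with hN
  have hNK : N ≤ K := (Subgroup.closure_le _).2 (by
    rintro _ ⟨g, hg, rfl⟩
    exact h.perfect ▸ Subgroup.commutator_mem_commutator hg hk)
  have hgen : ∀ g ∈ K, ⁅g, k⁆ ∈ N := fun g hg => Subgroup.subset_closure ⟨g, hg, rfl⟩
  have hinv : ∀ g ∈ K, ∀ x ∈ N, g * x * g⁻¹ ∈ N := by
    intro g hg x hx
    have hle : N ≤ N.comap (MulAut.conj g).toMonoidHom := (Subgroup.closure_le _).2 (by
      rintro _ ⟨l, hl, rfl⟩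
      show g * ⁅l, k⁆ * g⁻¹ ∈ N
      have e : g * ⁅l, k⁆ * g⁻¹ = ⁅g * l, k⁆ * ⁅g, k⁆⁻¹ := by
        simp [commutatorElement_def, mul_assoc]
      rw [e]
      exact mul_mem (hgen _ (mul_mem hg hl)) (inv_mem (hgen g hg)))
    exact hle hx
  rcases h.simple N hNK hinv with h1 | h1
  · refine absurd (h.central_of_comm (Subgroup.le_normalizer hk) fun g hg => ?_) hkc
    rw [← commutatorElement_inv]
    exact inv_mem (h1 (hgen g hg))
  · exact h1 ▸ (Subgroup.closure_le _).2 (by rintro _ ⟨g, hg, rfl⟩; exact hS g hg)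

/-- A subgroup containing all conjugates of a noncentral element contains `K`. -/
theorem QS.le_of_conjugates {K : Subgroup G} (h : QS K) {k : G} (hk : k ∈ K)
    (hkc : k ∉ Subgroup.centralizer (K : Set G)) (S : Subgroup G)
    (hS : ∀ g ∈ K, g * k * g⁻¹ ∈ S) : K ≤ S :=
  h.le_of_commutators hk hkc S fun g hg => by
    rw [show ⁅g, k⁆ = g * k * g⁻¹ * k⁻¹ from commutatorElement_def g k]
    exact mul_mem (hS g hg) (inv_mem (by simpa using hS 1 (one_mem K)))

theorem QS.map_conj {K : Subgroup G} (h : QS K) (g : G) :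
    QS (K.map (MulAut.conj g).toMonoidHom) := by
  set e : G →* G := (MulAut.conj g).toMonoidHom with he
  have hinj : Function.Injective e := (MulAut.conj g).injective
  have hcent : ∀ x, x ∈ Subgroup.centralizer (K : Set G) →
      e x ∈ Subgroup.centralizer (K.map e : Set G) := fun x hx => by
    refine Subgroup.mem_centralizer_iff.2 ?_
    rintro _ ⟨y, hy, rfl⟩
    rw [← map_mul, ← map_mul, Subgroup.mem_centralizer_iff.1 hx y hy]
  refine ⟨by rw [← Subgroup.map_commutator, h.perfect], fun hle => h.noncomm fun x hx => ?_,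
    fun N hN hinv => ?_⟩
  · refine Subgroup.mem_centralizer_iff.2 fun y hy => hinj ?_
    rw [map_mul, map_mul]
    exact Subgroup.mem_centralizer_iff.1 (hle (Subgroup.mem_map_of_mem e hx)) _ (Subgroup.mem_map_of_mem e hy)
  · have hcm : (N.comap e).map e = N := Subgroup.map_comap_eq_self (hN.trans (Subgroup.map_le_range e K))
    rcases h.simple (N.comap e) (fun x hx => (Subgroup.mem_map_iff_mem hinj).1 (hN hx))
      (fun k hk x hx => by
        show e (k * x * k⁻¹) ∈ N
        rw [map_mul, map_mul, map_inv]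
        exact hinv _ (Subgroup.mem_map_of_mem e hk) _ hx) with h1 | h1
    · refine Or.inl (hcm ▸ ?_)
      rintro _ ⟨x, hx, rfl⟩
      exact hcent x (h1 hx)
    · exact Or.inr (by rw [← hcm, h1])

theorem QS.subgroupOf {K H : Subgroup G} (h : QS K) (hKH : K ≤ H) : QS (K.subgroupOf H) := by
  have hinj := H.subtype_injective
  have hmap : (K.subgroupOf H).map H.subtype = K := Subgroup.map_subgroupOf_eq_of_le hKH
  refine ⟨Subgroup.map_injective hinj (by rw [Subgroup.map_commutator, hmap, h.perfect]),
    fun hle => h.noncomm fun x hx => Subgroup.mem_centralizer_iff.2 fun y hy => ?_,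
    fun N hN hinv => ?_⟩
  · exact congrArg Subtype.val (Subgroup.mem_centralizer_iff.1
      (hle (show (⟨x, hKH hx⟩ : H) ∈ K.subgroupOf H from hx)) ⟨y, hKH hy⟩ hy)
  · rcases h.simple (N.map H.subtype) (hmap ▸ Subgroup.map_mono hN) (by
      rintro g hg _ ⟨x, hx, rfl⟩
      exact ⟨_, hinv ⟨g, hKH hg⟩ hg x hx, rfl⟩) with h1 | h1
    · refine Or.inl fun x hx => Subgroup.mem_centralizer_iff.2 fun y hy => Subtype.ext ?_
      exact Subgroup.mem_centralizer_iff.1 (h1 (Subgroup.mem_map_of_mem _ hx)) (y : G) hy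
    · exact Or.inr (Subgroup.map_injective hinj (h1.trans hmap.symm))

end QS

/-! ### Endomorphism actions -/

section Action

variable {G : Type u} [Group G] {V : Type v} [AddCommGroup V]

theorem end_mul (f g : AddMonoid.End V) (v : V) : (f * g) v = f (g v) := rfl

theorem end_one (v : V) : (1 : AddMonoid.End V) v = v := rfl

theorem end_sub (f g : AddMonoid.End V) (v : V) : (f - g) v = f v - g v := rfl

theorem end_add (f g : AddMonoid.End V) (v : V) : (f + g) v = f v + g v := rfl

theorem end_zero (v : V) : (0 : AddMonoid.End V) v = 0 := rfl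

variable (φ : G →* AddMonoid.End V)

theorem act_inv_cancel (g : G) (v : V) : φ g⁻¹ (φ g v) = v := by
  rw [← end_mul, ← map_mul, inv_mul_cancel, map_one]; rfl

theorem act_cancel_inv (g : G) (v : V) : φ g (φ g⁻¹ v) = v := by
  rw [← end_mul, ← map_mul, mul_inv_cancel, map_one]; rfl

theorem act_injective (g : G) : Function.Injective (φ g) := fun v w h => by
  simpa [act_inv_cancel] using congrArg (φ g⁻¹) h

/-- The common fixed points of a set of elements. -/
def fixSet (S : Set G) : AddSubgroup V where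
  carrier := {v | ∀ s ∈ S, φ s v = v}
  zero_mem' _ _ := map_zero _
  add_mem' ha hb s hs := by rw [map_add, ha s hs, hb s hs]
  neg_mem' ha s hs := by rw [map_neg, ha s hs]

theorem mem_fixSet {S : Set G} {v : V} : v ∈ fixSet φ S ↔ ∀ s ∈ S, φ s v = v := Iff.rfl

/-- The fixed points of one element. -/
abbrev fix1 (g : G) : AddSubgroup V := fixSet φ {g}

theorem mem_fix1 {g : G} {v : V} : v ∈ fix1 φ g ↔ φ g v = v := by simp [mem_fixSet]

/-- The elements fixing every vector of a set. -/
def pstab (W : Set V) : Subgroup G where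
  carrier := {g | ∀ v ∈ W, φ g v = v}
  one_mem' v _ := by rw [map_one]; rfl
  mul_mem' ha hb v hv := by rw [map_mul, end_mul, hb v hv, ha v hv]
  inv_mem' {g} hg v hv := by
    conv_lhs => rw [← hg v hv]
    exact act_inv_cancel φ g v

theorem mem_pstab {W : Set V} {g : G} : g ∈ pstab φ W ↔ ∀ v ∈ W, φ g v = v := Iff.rfl

/-- The elements whose image fixes the endomorphism `X` on the left. -/
def stabL (X : AddMonoid.End V) : Subgroup G where
  carrier := {g | φ g * X = X}
  one_mem' := by simp
  mul_mem' {a b} ha hb := by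
    show φ (a * b) * X = X
    rw [map_mul, mul_assoc, show φ b * X = X from hb]; exact ha
  inv_mem' {g} hg := by
    show φ g⁻¹ * X = X
    conv_lhs => rw [← show φ g * X = X from hg]
    rw [← mul_assoc, ← map_mul, inv_mul_cancel, map_one, one_mul]

theorem mem_stabL {X : AddMonoid.End V} {g : G} : g ∈ stabL φ X ↔ φ g * X = X := Iff.rfl

/-- The elements whose image fixes the endomorphism `X` on the right. -/
def stabR (X : AddMonoid.End V) : Subgroup G where
  carrier := {g | X * φ g = X}
  one_mem' := by simp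
  mul_mem' {a b} ha hb := by
    show X * φ (a * b) = X
    rw [map_mul, ← mul_assoc, show X * φ a = X from ha]; exact hb
  inv_mem' {g} hg := by
    show X * φ g⁻¹ = X
    conv_lhs => rw [← show X * φ g = X from hg]
    rw [mul_assoc, ← map_mul, mul_inv_cancel, map_one, mul_one]

theorem mem_stabR {X : AddMonoid.End V} {g : G} : g ∈ stabR φ X ↔ X * φ g = X := Iff.rfl

theorem pow_act_fixed {g : G} {v : V} (h : φ g v = v) : ∀ n : ℕ, φ (g ^ n) v = v
  | 0 => by rw [pow_zero, map_one]; rfl
  | n + 1 => by rw [pow_succ, map_mul, end_mul, h, pow_act_fixed h n]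

theorem pow_act_add {g : G} {v w : V} (hw : φ g w = w) (h : φ g v = v + w) :
    ∀ n : ℕ, φ (g ^ n) v = v + n • w
  | 0 => by rw [pow_zero, map_one, zero_nsmul, add_zero]; rfl
  | n + 1 => by
    rw [pow_succ', map_mul, end_mul, pow_act_add hw h n, map_add, map_nsmul, hw, h, succ_nsmul]
    abel

/-- A `p'`-element acting trivially on a subgroup and its quotient acts trivially. -/
theorem fixed_of_fixed_diff {p : ℕ} (hV : ∀ v : V, p • v = 0) {g : G}
    (hg : (orderOf g).Coprime p) {v : V} (hw : φ g (φ g v - v) = φ g v - v) : φ g v = v := by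
  set w := φ g v - v with hwdef
  have h := pow_act_add φ hw (show φ g v = v + w by rw [hwdef]; abel) (orderOf g)
  rw [pow_orderOf_eq_one, map_one, end_one] at h
  have h1 : orderOf g • w = 0 := left_eq_add.1 h
  have h2 : addOrderOf w ∣ 1 := by
    rw [← hg.gcd_eq_one]
    exact Nat.dvd_gcd (addOrderOf_dvd_of_nsmul_eq_zero h1) (addOrderOf_dvd_of_nsmul_eq_zero (hV w))
  have h3 : w = 0 := AddMonoid.addOrderOf_eq_one_iff.1 (Nat.dvd_one.1 h2)
  exact sub_eq_zero.1 h3

end Action

/-! ### An abelian coprime bound -/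

/-- An abelian `p'`-group acting faithfully on a finite `p`-torsion group is no larger than it. -/
theorem card_le_of_abelian_coprime {p : ℕ} :
    ∀ (n : ℕ) {R : Type u} [CommGroup R] [Finite R] {M : Type v} [AddCommGroup M] [Finite M],
      Nat.card M = n → (∀ m : M, p • m = 0) → (Nat.card R).Coprime p →
      ∀ ψ : R →* AddMonoid.End M, Function.Injective ψ → Nat.card R ≤ Nat.card M := by
  intro n
  induction n using Nat.strong_induction_on with
  | _ n ih =>
    intro R _ _ M _ _ hn hM hR ψ hψ
    rcases subsingleton_or_nontrivial M with hs | hs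
    · have : Subsingleton R := ⟨fun a b => hψ (AddMonoidHom.ext fun m => Subsingleton.elim _ _)⟩
      rw [Nat.card_unique (α := R)]
      exact Nat.card_pos
    obtain ⟨v, hv⟩ := exists_ne (0 : M)
    set S : Subgroup R := pstab ψ {v} with hS
    set U : AddSubgroup M := AddSubgroup.closure (Set.range fun r : R => ψ r v) with hU
    have hUinv : ∀ r : R, ∀ u ∈ U, ψ r u ∈ U := by
      intro r u hu
      have hle : U ≤ U.comap (ψ r) := (AddSubgroup.closure_le _).2 (by
        rintro _ ⟨s, rfl⟩
        refine AddSubgroup.subset_closure ⟨r * s, ?_⟩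
        show ψ (r * s) v = _
        rw [map_mul, end_mul]; rfl)
      exact hle hu
    have hStriv : ∀ r ∈ S, ∀ u ∈ U, ψ r u = u := by
      intro r hr u hu
      have hle : U ≤ fix1 ψ r := (AddSubgroup.closure_le _).2 (by
        rintro _ ⟨s, rfl⟩
        refine (mem_fix1 ψ).2 ?_
        show ψ r (ψ s v) = ψ s v
        rw [← end_mul, ← map_mul, mul_comm, map_mul, end_mul, (mem_pstab ψ).1 hr v rfl])
      exact (mem_fix1 ψ).1 (hle hu)
    let q := QuotientAddGroup.mk' U
    let ψ' : S →* AddMonoid.End (M ⧸ U) :=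
      { toFun := fun r => QuotientAddGroup.map U U (ψ r) (fun u hu => hUinv r u hu)
        map_one' := by
          refine QuotientAddGroup.addMonoidHom_ext U ?_
          ext m
          show QuotientAddGroup.mk' U (ψ ((1 : S) : R) m) = QuotientAddGroup.mk' U m
          rw [OneMemClass.coe_one, map_one]; rfl
        map_mul' := fun r s => by
          refine QuotientAddGroup.addMonoidHom_ext U ?_
          ext m
          show QuotientAddGroup.mk' U (ψ ((r * s : S) : R) m) = QuotientAddGroup.mk' U (ψ r (ψ s m))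
          rw [Subgroup.coe_mul, map_mul, end_mul] }
    have hψ' : Function.Injective ψ' := by
      refine (injective_iff_map_eq_one ψ').2 fun r hr => Subtype.ext (hψ ?_)
      rw [OneMemClass.coe_one, map_one]
      refine AddMonoidHom.ext fun m => ?_
      show ψ (r : R) m = m
      refine fixed_of_fixed_diff ψ hM ?_ (hStriv r r.2 _ ?_)
      · exact hR.coprime_dvd_left ((orderOf_dvd_natCard (r : R)))
      · rw [← QuotientAddGroup.eq_zero_iff, QuotientAddGroup.mk_sub, sub_eq_zero]
        exact DFunLike.congr_fun hr (QuotientAddGroup.mk m)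
    have hUv : v ∈ U := AddSubgroup.subset_closure ⟨1, by show ψ 1 v = v; rw [map_one]; rfl⟩
    have hU1 : 1 < Nat.card U := by
      rw [Finite.one_lt_card_iff_nontrivial]
      exact ⟨⟨⟨v, hUv⟩, 0, fun h => hv (congrArg Subtype.val h)⟩⟩
    have hMU : Nat.card M = Nat.card (M ⧸ U) * Nat.card U :=
      AddSubgroup.card_eq_card_quotient_mul_card_addSubgroup U
    have hlt : Nat.card (M ⧸ U) < n := by
      rw [← hn, hMU]; exact lt_mul_of_one_lt_right Nat.card_pos hU1
    have h1 := ih _ hlt rfl (fun m => by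
        induction m using QuotientAddGroup.induction_on with
        | H x => rw [← QuotientAddGroup.mk_nsmul, hM, QuotientAddGroup.mk_zero])
      (hR.coprime_dvd_left (Subgroup.card_subgroup_dvd_card S)) ψ' hψ'
    have h2 : S.index ≤ Nat.card U := by
      refine Nat.card_le_card_of_injective (fun c : R ⧸ S =>
        (⟨ψ c.out v, AddSubgroup.subset_closure ⟨c.out, rfl⟩⟩ : U)) fun c d h => ?_
      rw [← c.out_eq', ← d.out_eq', QuotientGroup.eq]
      refine (mem_pstab ψ).2 fun w hw => ?_
      have h' : ψ c.out v = ψ d.out v := congrArg Subtype.val h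
      rw [Set.mem_singleton_iff.1 hw, map_mul, end_mul, ← h']
      exact act_inv_cancel ψ _ _
    rw [← S.card_mul_index, hMU]
    exact Nat.mul_le_mul h1 h2

end Cfsg.Agent.PGV
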