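import Cfsg.Agent.Lib.Lead.PGV.TwoMoved

/-!
# A best offender normalises every component
-/

set_option autoImplicit false

open scoped Pointwise

namespace Cfsg.Agent.PGV

universe u v

variable {G : Type u} [Group G] {V : Type v} [AddCommGroup V] {φ : G →* AddMonoid.End V}

/-- An element acting trivially normalises `K`. -/
theorem normalizes_of_trivial {K : Subgroup G} (hK : QS K) (hne : ∃ k ∈ K, φ k ≠ 1) {c : G}
    (hc : φ c = 1) (hdis : c ∈ Subgroup.normalizer (K : Set G) ∨
      ∀ x ∈ K, ∀ y ∈ K, Commute (c * x * c⁻¹) y) : c ∈ Subgroup.normalizer (K : Set G) := by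
  refine hdis.resolve_right fun h => hK.image_not_comm φ hne fun x hx y hy => ?_
  have h1 := (h x hx y hy).map φ
  have e : φ (c * x * c⁻¹) = φ x := by
    have : φ c⁻¹ = 1 := by
      calc φ c⁻¹ = φ c * φ c⁻¹ := by rw [hc, one_mul]
        _ = 1 := by rw [← map_mul, mul_inv_cancel, map_one]
    rw [map_mul, map_mul, hc, this, one_mul, mul_one]
  rwa [e] at h1

/-- A complement in an elementary abelian group. -/
theorem exists_complement [Finite G] {p : ℕ} [hp : Fact p.Prime] {A A₀ : Subgroup G}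
    (hab : ∀ a ∈ A, ∀ b ∈ A, Commute a b) (hpow : ∀ a ∈ A, a ^ p = 1) (hA₀ : A₀ ≤ A) :
    ∃ A₁ ≤ A, A₀ ⊓ A₁ = ⊥ ∧ A₀ ⊔ A₁ = A := by
  obtain ⟨A₁, ⟨hA₁, hdisj⟩, hmax⟩ := Set.Finite.exists_maximalFor id
    {B : Subgroup G | B ≤ A ∧ A₀ ⊓ B = ⊥} (Set.toFinite _) ⟨⊥, bot_le, inf_bot_eq _⟩
  refine ⟨A₁, hA₁, hdisj, le_antisymm (sup_le hA₀ hA₁) fun x hx => ?_⟩
  by_contra hxn
  have hbig : A₀ ⊓ (A₁ ⊔ Subgroup.zpowers x) = ⊥ := by
    rw [eq_bot_iff]
    intro y hy
    obtain ⟨hy0, hy1⟩ := Subgroup.mem_inf.1 hy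
    have hnorm : Subgroup.zpowers x ≤ Subgroup.normalizer (A₁ : Set G) := (Subgroup.zpowers_le).2
      (Subgroup.mem_normalizer_iff.2 fun z => by
        constructor <;> intro hz
        · rwa [(hab x hx z (hA₁ hz)).eq, mul_inv_cancel_right]
        · have e : x⁻¹ * (x * z * x⁻¹) * x = x * z * x⁻¹ := by
            have := (hab x hx _ (hA₁ hz)).inv_left.eq
            rw [this, inv_mul_cancel_right]
          have e' : z = x * z * x⁻¹ := by rw [← e]; group
          rwa [e'])
    have hy' : y ∈ ((A₁ : Set G) * (Subgroup.zpowers x : Set G)) := by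
      rw [← Subgroup.coe_mul_of_right_le_normalizer_left _ _ hnorm]; exact hy1
    obtain ⟨b, hb, w, hw, rfl⟩ := hy'
    obtain ⟨i, rfl⟩ := Subgroup.mem_zpowers_iff.1 hw
    have hxi : x ^ i ∈ A₀ ⊔ A₁ := by
      have e : x ^ i = b⁻¹ * (b * x ^ i) := by group
      rw [e]
      exact mul_mem (Subgroup.mem_sup_right (inv_mem hb)) (Subgroup.mem_sup_left hy0)
    have hpi : (p : ℤ) ∣ i := by
      by_contra hd
      obtain ⟨u, w, huw⟩ : IsCoprime (p : ℤ) i :=
        (Prime.coprime_iff_not_dvd (Nat.prime_iff_prime_int.1 hp.out)).2 hd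
      refine hxn ?_
      have e : x = (x ^ p) ^ u * (x ^ i) ^ w := by
        rw [← zpow_natCast, ← zpow_mul, ← zpow_mul, ← zpow_add, mul_comm (p : ℤ), mul_comm i, huw, zpow_one]
      rw [e]
      exact mul_mem (zpow_mem (by rw [hpow x hx]; exact one_mem _) u) (zpow_mem hxi w)
    obtain ⟨j, rfl⟩ := hpi
    have he : x ^ ((p : ℤ) * j) = 1 := by rw [zpow_mul, zpow_natCast, hpow x hx, one_zpow]
    simp only [he, mul_one] at hy0 ⊢
    exact hdisj ▸ Subgroup.mem_inf.2 ⟨hy0, hb⟩
  have hle := hmax (j := A₁ ⊔ Subgroup.zpowers x) ⟨sup_le hA₁ ((Subgroup.zpowers_le).2 hx), hbig⟩ le_sup_left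
  exact hxn (Subgroup.mem_sup_right (hle (Subgroup.mem_sup_right (Subgroup.mem_zpowers x))))

/-- The theorem, in the generality needed for the induction. -/
theorem best_normalizes : ∀ (m : ℕ) {G : Type u} [Group G] [Finite G] {V : Type v} [AddCommGroup V] [Finite V]
    {p : ℕ} [Fact p.Prime] (φ : G →* AddMonoid.End V) (A K : Subgroup G),
    (∀ v : V, p • v = 0) → (∀ a ∈ A, ∀ b ∈ A, Commute a b) → (∀ a ∈ A, a ^ p = 1) → IsBest φ A →
    QS K → (∃ k ∈ K, φ k ≠ 1) →
    (∀ a ∈ A, a ∈ Subgroup.normalizer (K : Set G) ∨ ∀ x ∈ K, ∀ y ∈ K, Commute (a * x * a⁻¹) y) →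
    Nat.card V + Nat.card A = m → A ≤ Subgroup.normalizer (K : Set G) := by
  intro m
  induction m using Nat.strong_induction_on with
  | _ m ih =>
    intro G _ _ V _ _ p _ φ A K hV hab hpow hbest hK hne hdis hm
    classical
    have hp := (Fact.out : p.Prime)
    by_contra hnot
    obtain ⟨a, ha, han⟩ := SetLike.not_le_iff_exists.1 hnot
    -- faithfulness
    set A₀ := A ⊓ (φ.toHomUnits : G →* (AddMonoid.End V)ˣ).ker with hA₀
    have hker : ∀ c ∈ A₀, φ c = 1 := fun c hc => congrArg Units.val (MonoidHom.mem_ker.1 (Subgroup.mem_inf.1 hc).2)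
    have hfaith : A₀ = ⊥ := by
      by_contra hne0
      obtain ⟨A₁, hA₁, hd, hs⟩ := exists_complement hab hpow (inf_le_left : A₀ ≤ A)
      have hcard : ∀ B ≤ A₁, Nat.card A₀ * Nat.card B ≤ Nat.card ↥(A₀ ⊔ B) := fun B hB => by
        rw [← Nat.card_prod]
        refine Nat.card_le_card_of_injective (fun z : A₀ × B => (⟨(z.1 : G) * z.2,
          mul_mem (Subgroup.mem_sup_left z.1.2) (Subgroup.mem_sup_right z.2.2)⟩ : ↥(A₀ ⊔ B))) ?_
        rintro ⟨x, y⟩ ⟨x', y'⟩ h
        have h' : (x : G) * y = x' * y' := congrArg Subtype.val h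
        have e : (x' : G)⁻¹ * x = (y' : G) * (y : G)⁻¹ := by
          calc (x' : G)⁻¹ * x = (x' : G)⁻¹ * ((x : G) * y) * (y : G)⁻¹ := by group
            _ = _ := by rw [h']; group
        have h1 : (x' : G)⁻¹ * x = 1 := by
          rw [← Subgroup.mem_bot, ← hd]
          exact Subgroup.mem_inf.2 ⟨mul_mem (inv_mem x'.2) x.2, e ▸ mul_mem (hB y'.2) (inv_mem (hB y.2))⟩
        have hx : x = x' := Subtype.ext (inv_mul_eq_one.1 h1).symm
        rw [hx] at h'
        exact Prod.ext hx (Subtype.ext (mul_left_cancel h'))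
      have hfix : ∀ B : Subgroup G, fixSet φ (B : Set G) ≤ fixSet φ ((A₀ ⊔ B : Subgroup G) : Set G) :=
        fun B v hv => fixSet_sup φ A₀ B ⟨fun c hc => by rw [hker c hc]; rfl, hv⟩
      have hA₁lt : Nat.card A₁ < Nat.card A := by
        have h1 : Nat.card A₀ * Nat.card A₁ ≤ Nat.card A := by
          calc _ ≤ Nat.card ↥(A₀ ⊔ A₁) := hcard A₁ le_rfl
            _ = _ := by rw [hs]
        have h2 : 1 < Nat.card A₀ := by
          rw [Finite.one_lt_card_iff_nontrivial, Subgroup.nontrivial_iff_ne_bot]; exact hne0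
        exact lt_of_lt_of_le (lt_mul_of_one_lt_left Nat.card_pos h2) h1
      have hb1 : IsBest φ A₁ := fun B hB => by
        have h1 : Nat.card A₀ * meas φ B ≤ meas φ A := by
          calc Nat.card A₀ * meas φ B = Nat.card A₀ * Nat.card B * Nat.card (fixSet φ (B : Set G)) :=
                (mul_assoc _ _ _).symm
            _ ≤ Nat.card ↥(A₀ ⊔ B) * Nat.card (fixSet φ ((A₀ ⊔ B : Subgroup G) : Set G)) :=
                Nat.mul_le_mul (hcard B hB) (AddSubgroup.card_le_of_le (hfix B))
            _ ≤ meas φ A := hbest _ (sup_le inf_le_left (hB.trans hA₁))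
        have h2 : meas φ A ≤ Nat.card A₀ * meas φ A₁ := by
          have hcA : Nat.card A ≤ Nat.card A₀ * Nat.card A₁ := by
            rw [← Nat.card_prod]
            refine Nat.card_le_card_of_surjective (fun z : A₀ × A₁ => (⟨(z.1 : G) * z.2,
              mul_mem ((inf_le_left : A₀ ≤ A) z.1.2) (hA₁ z.2.2)⟩ : A)) ?_
            rintro ⟨x, hx⟩
            have hn : A₁ ≤ Subgroup.normalizer (A₀ : Set G) := fun b hb =>
              Subgroup.mem_normalizer_iff.2 fun y => by
                constructor <;> intro hy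
                · rwa [(hab b (hA₁ hb) y ((inf_le_left : A₀ ≤ A) hy)).eq, mul_inv_cancel_right]
                · have hby := (hab b (hA₁ hb) _ ((inf_le_left : A₀ ≤ A) hy)).inv_left.eq
                  have e : y = b * y * b⁻¹ := by
                    calc y = b⁻¹ * (b * y * b⁻¹) * b := by group
                      _ = _ := by rw [hby, inv_mul_cancel_right]
                  rwa [e]
            have hx' : x ∈ ((A₀ : Set G) * (A₁ : Set G)) := by
              rw [← Subgroup.coe_mul_of_right_le_normalizer_left _ _ hn]; exact hs.ge hx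
            obtain ⟨y, hy, z, hz, hyz⟩ := hx'
            exact ⟨(⟨y, hy⟩, ⟨z, hz⟩), Subtype.ext hyz⟩
          calc meas φ A ≤ Nat.card A₀ * Nat.card A₁ * Nat.card (fixSet φ (A₁ : Set G)) :=
                Nat.mul_le_mul hcA (AddSubgroup.card_le_of_le (fixSet_anti φ hA₁))
            _ = _ := mul_assoc _ _ _
        exact Nat.le_of_mul_le_mul_left (h1.trans h2) Nat.card_pos
      refine hnot (hs ▸ sup_le (fun c hc => normalizes_of_trivial hK hne (hker c hc) (hdis c
        ((inf_le_left : A₀ ≤ A) hc))) ?_)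
      exact ih _ (by omega) φ A₁ K hV (fun x hx y hy => hab x (hA₁ hx) y (hA₁ hy))
        (fun x hx => hpow x (hA₁ hx)) hb1 hK hne (fun x hx => hdis x (hA₁ hx)) rfl
    have hinjA : ∀ c ∈ A, φ c = 1 → c = 1 := fun c hc h => by
      rw [← Subgroup.mem_bot, ← hfaith]
      exact Subgroup.mem_inf.2 ⟨hc, MonoidHom.mem_ker.2 (Units.ext h)⟩
    -- quadratic elements do not centralise `K`
    have hcent : ∀ c ∈ A, c ≠ 1 → (φ c - 1) * (φ c - 1) = 0 → c ∉ Subgroup.centralizer (K : Set G) := by
      intro c hc hc1 hcq hcK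
      set G' := Subgroup.centralizer ({c} : Set G) with hG'
      set U := fix1 φ c with hU
      have hGU : G' ≤ stabOf φ U := fun g hg => mem_stabOf φ fun v hv => by
        have hgc : Commute g c := Subgroup.mem_centralizer_singleton_iff.1 hg
        rw [hU, mem_fix1] at hv ⊢
        rw [← end_mul, ← map_mul, ← hgc.eq, map_mul, end_mul, hv]
      set ψ : G' →* AddMonoid.End U := (restr φ U).comp (Subgroup.inclusion hGU) with hψ
      have hKG : K ≤ G' := fun k hk => Subgroup.mem_centralizer_singleton_iff.2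
        (Subgroup.mem_centralizer_iff.1 hcK k hk)
      have hAG : A ≤ G' := fun x hx => Subgroup.mem_centralizer_singleton_iff.2 (hab x hx c hc).eq
      have hclt : Nat.card U < Nat.card V := by
        refine lt_of_le_of_ne (Nat.le_of_dvd Nat.card_pos (AddSubgroup.card_addSubgroup_dvd_card _)) fun h => ?_
        refine hc1 (hinjA c hc (AddMonoidHom.ext fun v => ?_))
        have hv : v ∈ U := by rw [AddSubgroup.eq_top_of_card_eq U h]; trivial
        exact (mem_fix1 φ).1 hv
      have hne' : ∃ k ∈ K.subgroupOf G', ψ k ≠ 1 := by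
        by_contra hcon
        push Not at hcon
        have hfixU : ∀ k ∈ K, ∀ v ∈ U, φ k v = v := fun k hk v hv => by
          have h1 : ψ ⟨k, hKG hk⟩ = 1 := hcon ⟨k, hKG hk⟩ hk
          have h2 := congrArg (fun f : AddMonoid.End U => ((f ⟨v, hv⟩ : U) : V)) h1
          exact h2
        have hmove : ∀ k ∈ K, ∀ v, φ k v - v ∈ U := fun k hk v => by
          have h1 : φ c (φ c v - v) = φ c v - v := by
            have := DFunLike.congr_fun hcq v
            exact sub_eq_zero.1 this
          have h2 := hfixU k hk _ ((mem_fix1 φ).2 h1)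
          have hkc : φ k (φ c v) = φ c (φ k v) := by
            rw [← end_mul, ← map_mul, ← Subgroup.mem_centralizer_iff.1 hcK k hk |>.symm, map_mul, end_mul]
          rw [map_sub, hkc, ← sub_eq_zero] at h2
          rw [hU, mem_fix1, map_sub, ← sub_eq_zero, ← h2]; abel
        refine hK.image_not_comm φ hne fun x hx y hy => AddMonoidHom.ext fun v => ?_
        show φ x (φ y v) = φ y (φ x v)
        have e1 := hfixU x hx _ (hmove y hy v)
        have e2 := hfixU y hy _ (hmove x hx v)
        rw [map_sub, sub_eq_iff_eq_add] at e1 e2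
        rw [e1, e2]; abel
      have hfixeq : ∀ B : Subgroup G', Nat.card (fixSet ψ (B : Set G')) =
          Nat.card (fixSet φ ((B.map G'.subtype ⊔ Subgroup.zpowers c : Subgroup G) : Set G)) := fun B =>
        Nat.card_congr
          { toFun := fun v => ⟨((v : U) : V), fixSet_sup φ _ _ ⟨by
                rintro _ ⟨g, hg, rfl⟩
                exact congrArg Subtype.val (v.2 g hg), by
                intro z hz
                have h : Subgroup.zpowers c ≤ pstab φ {((v : U) : V)} := (Subgroup.zpowers_le).2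
                  fun w hw => by rw [Set.mem_singleton_iff.1 hw]; exact (mem_fix1 φ).1 (v : U).2
                exact h hz _ rfl⟩⟩
            invFun := fun v => ⟨⟨(v : V), (mem_fix1 φ).2
              (v.2 c (Subgroup.mem_sup_right (Subgroup.mem_zpowers c)))⟩,
              fun g hg => Subtype.ext (v.2 (g : G) (Subgroup.mem_sup_left ⟨g, hg, rfl⟩))⟩
            left_inv := fun _ => rfl
            right_inv := fun _ => rfl }
      have hcardof : ∀ B : Subgroup G', Nat.card B = Nat.card (B.map G'.subtype) := fun B =>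
        (Subgroup.card_map_of_injective G'.subtype_injective).symm
      have hb' : IsBest ψ (A.subgroupOf G') := fun B hB => by
        have hBA : B.map G'.subtype ⊔ Subgroup.zpowers c ≤ A := sup_le
          ((Subgroup.map_mono hB).trans (Subgroup.map_subgroupOf_eq_of_le hAG).le) ((Subgroup.zpowers_le).2 hc)
        have hAA : A.map (MonoidHom.id G) = A := Subgroup.map_id A
        have e1 : meas ψ (A.subgroupOf G') = meas φ A := by
          simp only [meas, hfixeq, hcardof, Subgroup.map_subgroupOf_eq_of_le hAG,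
            sup_of_le_left ((Subgroup.zpowers_le).2 hc)]
        rw [e1]
        refine le_trans ?_ (hbest _ hBA)
        simp only [meas, hfixeq, hcardof]
        exact Nat.mul_le_mul_right _ (Subgroup.card_le_of_le le_sup_left)
      have hnorm : ∀ x : G', x ∈ Subgroup.normalizer ((K.subgroupOf G') : Set G') ↔
          (x : G) ∈ Subgroup.normalizer (K : Set G) := fun x => by
        rw [Subgroup.mem_normalizer_iff, Subgroup.mem_normalizer_iff]
        refine ⟨fun h y => ⟨fun hy => (h ⟨y, hKG hy⟩).1 hy, fun hy => ?_⟩, fun h y => h y⟩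
        have hy' : y ∈ G' := by
          have := mul_mem (mul_mem (inv_mem x.2) (hKG hy)) x.2
          simpa [mul_assoc] using this
        exact (h ⟨y, hy'⟩).2 hy
      have hA' : Nat.card (A.subgroupOf G') = Nat.card A := Nat.card_congr (Subgroup.subgroupOfEquivOfLe hAG).toEquiv
      have := ih (Nat.card U + Nat.card (A.subgroupOf G')) (by omega) ψ (A.subgroupOf G') (K.subgroupOf G')
        (p := p) (fun v => Subtype.ext (hV v)) (fun x hx y hy => Subtype.ext (hab _ hx _ hy).eq)
        (fun x hx => Subtype.ext (hpow _ hx)) hb' (hK.subgroupOf hKG) hne'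
        (fun x hx => (hdis _ hx).imp (fun h => (hnorm x).2 h)
          fun h y hy z hz => Subtype.ext (h _ hy _ hz).eq) rfl
      exact han ((hnorm ⟨a, hAG ha⟩).1 (this ha))
    -- the quadratic part
    have hne1 : ∃ c ∈ A, φ c ≠ 1 := ⟨a, ha, fun h => han ((hinjA a ha h) ▸ one_mem _)⟩
    set B := quadPart φ A with hBdef
    have hBA : B ≤ A := inf_le_left
    have hB1 : B ≠ ⊥ := hbest.quadPart_ne_bot φ hV hab hpow hne1
    have hBm : meas φ B = meas φ A := (hbest.replacement φ hab).1
    have hBbest : IsBest φ B := fun X hX => hBm ▸ hbest X (hX.trans hBA)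
    have hBq : ∀ c ∈ B, ∀ b ∈ A, (φ c - 1) * (φ b - 1) = 0 := fun c hc b hb => AddMonoidHom.ext fun v => by
      show φ c (φ b v - v) - (φ b v - v) = 0
      rw [sub_eq_zero]
      exact (Subgroup.mem_inf.1 hc).2 _ (AddSubgroup.subset_closure ⟨v, trivial, b, hb, rfl⟩)
    have hBfaith : ∀ c ∈ B, c ≠ 1 → c ∉ Subgroup.centralizer (K : Set G) := fun c hc hc1 =>
      hcent c (hBA hc) hc1 (hBq c hc c (hBA hc))
    -- find a quadratic group normalising `K`
    obtain ⟨N, hNB, hNn, hN1, hoff⟩ : ∃ N : Subgroup G, N ≤ B ∧ N ≤ Subgroup.normalizer (K : Set G) ∧ N ≠ ⊥ ∧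
        (Nat.card V ≤ Nat.card N * Nat.card (fixSet φ (N : Set G)) ∨
          ((∀ x ∈ A, x ∈ Subgroup.normalizer (K : Set G) → x ∈ N) ∧
            Nat.card V ≤ Nat.card A * Nat.card (fixSet φ (A : Set G)))) := by
      rcases eq_or_ne B A with hBA' | hBA'
      · refine ⟨A ⊓ Subgroup.normalizer (K : Set G), by rw [hBA']; exact inf_le_left, inf_le_right, fun h => ?_,
          Or.inr ⟨fun x hx hxn => Subgroup.mem_inf.2 ⟨hx, hxn⟩, hbest.card_le φ⟩⟩
        refine no_regular_orbit φ hV hK hne (fun x => ⟨1, Subtype.ext (by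
          rw [pow_one, SubgroupClass.coe_pow]; exact hpow x x.2)⟩) (fun hA => han ?_) hab
          (fun x hx hx1 => (hdis x hx).resolve_left fun hxn => hx1 ?_) (hbest.card_le φ)
        · rw [hA, Subgroup.mem_bot] at ha
          rw [ha]; exact one_mem _
        · rw [← Subgroup.mem_bot, ← h]; exact Subgroup.mem_inf.2 ⟨hx, hxn⟩
      · refine ⟨B, le_rfl, ?_, hB1, Or.inl (hBbest.card_le φ)⟩
        have hlt : Nat.card B < Nat.card A := by
          refine lt_of_le_of_ne (Subgroup.card_le_of_le hBA) fun h => hBA' ?_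
          exact Subgroup.eq_of_le_of_card_ge hBA h.ge
        exact ih _ (by omega) φ B K hV (fun x hx y hy => hab x (hBA hx) y (hBA hy))
          (fun x hx => hpow x (hBA hx)) hBbest hK hne (fun x hx => hdis x (hBA hx)) rfl
    obtain ⟨n, hn, hn1⟩ := N.bot_or_exists_ne_one.resolve_left hN1
    rcases eq_or_ne p 2 with rfl | hp2
    · exact no_two_case φ hV hK hne hab (fun x hx => by rw [← pow_two]; exact hpow x hx) hdis ha han
        (hNB.trans hBA) hNn hN1 (fun c hc => hBfaith c (hNB hc)) (fun c hc => hBq c (hNB hc)) hoff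
    · refine no_odd_orbit φ hp2 hK hne hV (hpow a ha) (fun i hi => ?_) (hab n (hBA (hNB hn)) a ha) (hNn hn)
        (by have := hBq n (hNB hn) a ha; rwa [sub_mul, one_mul, sub_eq_zero] at this) (hBfaith n (hNB hn) hn1)
      refine (hdis _ (pow_mem ha i)).resolve_left fun h => han ?_
      obtain ⟨u, w, huw⟩ : IsCoprime (p : ℤ) i :=
        (Prime.coprime_iff_not_dvd (Nat.prime_iff_prime_int.1 hp)).2 (by exact_mod_cast hi)
      have e : a = (a ^ p) ^ u * (a ^ i) ^ w := by
        rw [← zpow_natCast, ← zpow_natCast, ← zpow_mul, ← zpow_mul, ← zpow_add, mul_comm (p : ℤ),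
          mul_comm (i : ℤ), huw, zpow_one]
      rw [e, hpow a ha, one_zpow, one_mul]
      exact zpow_mem h w

end Cfsg.Agent.PGV
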