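import Cfsg.Agent.Lib.Lead.PGV.Replace

/-!
# A component moved by a best offender: the diagonal and the odd case
-/

set_option autoImplicit false
open scoped commutatorElement

namespace Cfsg.Agent.PGV

universe u v

variable {G : Type u} [Group G] {V : Type v} [AddCommGroup V] (φ : G →* AddMonoid.End V)

/-- An element normalising `K` whose image commutes with that of `K` centralises `K`. -/
theorem QS.mem_centralizer_of_image_comm {K : Subgroup G} (h : QS K) (hne : ∃ k ∈ K, φ k ≠ 1) {x : G}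
    (hx : x ∈ Subgroup.normalizer (K : Set G)) (hc : ∀ k ∈ K, Commute (φ x) (φ k)) :
    x ∈ Subgroup.centralizer (K : Set G) := by
  refine h.central_of_comm hx fun k hk => ?_
  rcases h.simple (K ⊓ (φ.toHomUnits : G →* (AddMonoid.End V)ˣ).ker) inf_le_left (fun g hg y hy =>
      Subgroup.mem_inf.2 ⟨mul_mem (mul_mem hg (Subgroup.mem_inf.1 hy).1) (inv_mem hg),
        (MonoidHom.normal_ker φ.toHomUnits).conj_mem y (Subgroup.mem_inf.1 hy).2 g⟩) with h1 | h1
  · refine h1 (Subgroup.mem_inf.2 ⟨?_, ?_⟩)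
    · rw [commutatorElement_def]
      exact mul_mem ((Subgroup.mem_normalizer_iff.1 hx k).1 hk) (inv_mem hk)
    · refine MonoidHom.mem_ker.2 (Units.ext ?_)
      rw [MonoidHom.coe_toHomUnits, Units.val_one, commutatorElement_def, map_mul, map_mul, map_mul,
        (hc k hk).eq, mul_assoc (φ k), ← map_mul φ x, mul_inv_cancel, map_one, mul_one, ← map_mul,
        mul_inv_cancel, map_one]
  · obtain ⟨l, hl, hl1⟩ := hne
    exact absurd (congrArg Units.val (MonoidHom.mem_ker.1 (Subgroup.mem_inf.1 (h1.ge hl)).2)) hl1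

/-- The action of `K` is nontrivial modulo the centre: a central image gives a central element. -/
theorem QS.central_of_image_comm {K : Subgroup G} (h : QS K) (hne : ∃ k ∈ K, φ k ≠ 1) {x : G}
    (hx : x ∈ K) (hc : ∀ k ∈ K, Commute (φ x) (φ k)) : x ∈ Subgroup.centralizer (K : Set G) :=
  h.mem_centralizer_of_image_comm φ hne (Subgroup.le_normalizer hx) hc

/-- If the image of `K` is abelian, it is trivial. -/
theorem QS.image_not_comm {K : Subgroup G} (h : QS K) (hne : ∃ k ∈ K, φ k ≠ 1) :
    ¬ ∀ x ∈ K, ∀ y ∈ K, Commute (φ x) (φ y) := fun hc =>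
  h.noncomm fun x hx => h.central_of_image_comm φ hne hx (hc x hx)

/-- The diagonal fixes what `φ a - 1` moves. -/
theorem diag_fixes {K : Subgroup G} (hK : QS K) (δ : K →* G) {a n : G}
    (hδa : ∀ k, Commute a (δ k)) (hna : Commute n a) (hn : n ∈ Subgroup.normalizer (K : Set G))
    (hδn : ∀ k : K, ∀ h : n * (k : G) * n⁻¹ ∈ K, δ ⟨n * k * n⁻¹, h⟩ = n * δ k * n⁻¹)
    (hquad : φ n * (φ a - 1) = φ a - 1) (hnc : n ∉ Subgroup.centralizer (K : Set G)) (k : K) :
    φ (δ k) * (φ a - 1) = φ a - 1 ∧ (φ a - 1) * φ (δ k) = φ a - 1 := by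
  set Y := φ a - 1 with hY
  have hYc : ∀ g, Commute a g → Commute (φ g) Y := fun g hg =>
    ((Commute.map hg φ).symm).sub_right (Commute.one_right _)
  set Q : Subgroup G := ((stabL φ Y).comap δ).map K.subtype with hQ
  have hmem : ∀ x : K, φ (δ x) * Y = Y → (x : G) ∈ Q := fun x hx => ⟨x, hx, rfl⟩
  have hQK : Q ≤ K := Subgroup.map_subtype_le _
  have hkey : ∀ x : K, φ (δ x) * Y = Y := by
    intro x
    rcases hK.simple Q hQK (by
      rintro g hg _ ⟨y, hy, rfl⟩
      refine hmem (⟨g, hg⟩ * y * ⟨g, hg⟩⁻¹) ?_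
      have hy' : φ (δ y) * Y = Y := hy
      rw [map_mul, map_mul, map_inv, map_mul, map_mul]
      calc φ (δ ⟨g, hg⟩) * φ (δ y) * φ (δ ⟨g, hg⟩)⁻¹ * Y
          = φ (δ ⟨g, hg⟩) * φ (δ y) * (Y * φ (δ ⟨g, hg⟩)⁻¹) := by
            rw [mul_assoc, (hYc _ (hδa ⟨g, hg⟩).inv_right).eq]
        _ = φ (δ ⟨g, hg⟩) * Y * φ (δ ⟨g, hg⟩)⁻¹ := by
            rw [mul_assoc, ← mul_assoc (φ (δ y)), hy', ← mul_assoc]
        _ = Y * (φ (δ ⟨g, hg⟩) * φ (δ ⟨g, hg⟩)⁻¹) := by rw [(hYc _ (hδa ⟨g, hg⟩)).eq, mul_assoc]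
        _ = Y := by rw [← map_mul, mul_inv_cancel, map_one, mul_one]) with h1 | h1
    · refine absurd (hK.central_of_comm hn fun l hl => h1 ?_) hnc
      have hl' : n * l * n⁻¹ ∈ K := (Subgroup.mem_normalizer_iff.1 hn l).1 hl
      refine hmem (⟨n * l * n⁻¹, hl'⟩ * ⟨l, hl⟩⁻¹) ?_
      rw [map_mul, map_inv, hδn ⟨l, hl⟩ hl']
      set d := δ ⟨l, hl⟩ with hd
      have hc := hδa ⟨l, hl⟩
      have e1 : φ n⁻¹ * Y = Y := by
        conv_lhs => rw [← hquad]
        rw [← mul_assoc, ← map_mul, inv_mul_cancel, map_one, one_mul]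
      calc φ (n * d * n⁻¹ * d⁻¹) * Y = φ n * φ d * φ n⁻¹ * (φ d⁻¹ * Y) := by
            rw [map_mul, map_mul, map_mul, mul_assoc]
        _ = φ n * φ d * (φ n⁻¹ * Y) * φ d⁻¹ := by rw [(hYc _ hc.inv_right).eq]; noncomm_ring
        _ = φ n * (φ d * Y) * φ d⁻¹ := by rw [e1, mul_assoc (φ n)]
        _ = (φ n * Y) * (φ d * φ d⁻¹) := by rw [(hYc _ hc).eq]; noncomm_ring
        _ = Y := by rw [hquad, ← map_mul, mul_inv_cancel, map_one, mul_one]
    · obtain ⟨y, hy, hyx⟩ := h1.ge x.2
      rw [← Subtype.ext hyx]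
      exact hy
  exact ⟨hkey k, by rw [← (hYc _ (hδa k)).eq]; exact hkey k⟩

/-- An element commuting with the diagonal is not moved by `a` on what the diagonal moves. -/
theorem conj_eq_on_moved {a x d : G} (had : Commute a d) (hxd : Commute x d)
    (hfix : (φ a - 1) * φ d = φ a - 1) :
    (φ (a * x * a⁻¹) - φ x) * (φ d - 1) = 0 := by
  set Z := φ d - 1 with hZ
  have haZ : φ a * Z = Z := by
    have h0 : (φ a - 1) * Z = 0 := by rw [hZ, mul_sub, hfix, mul_one, sub_self]
    rwa [sub_mul, one_mul, sub_eq_zero] at h0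
  have hxZ : φ x * Z = Z * φ x := ((Commute.map hxd φ).sub_right (Commute.one_right _)).eq
  have haiZ : φ a⁻¹ * Z = Z := by
    conv_lhs => rw [← haZ]
    rw [← mul_assoc, ← map_mul, inv_mul_cancel, map_one, one_mul]
  have e : φ (a * x * a⁻¹) * Z = φ x * Z := by
    calc φ (a * x * a⁻¹) * Z = φ a * φ x * (φ a⁻¹ * Z) := by rw [map_mul, map_mul, mul_assoc]
      _ = φ a * (Z * φ x) := by rw [haiZ, mul_assoc, hxZ]
      _ = φ x * Z := by rw [← mul_assoc, haZ, hxZ]
  rw [sub_mul, e, sub_self]

/-- Conjugating an equation by the image of a group element. -/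
theorem conj_zero {y : G} {X : AddMonoid.End V} (h : X = 0) : φ y * X * φ y⁻¹ = 0 := by
  rw [h, mul_zero, zero_mul]

theorem map_conj_mul (y g h : G) :
    φ y * (φ g * φ h) * φ y⁻¹ = φ (y * g * y⁻¹) * φ (y * h * y⁻¹) := by
  rw [← map_mul, ← map_mul, ← map_mul, ← map_mul]; congr 1; group

/-- A subgroup containing the images of all coordinates contains the image of every tuple. -/
theorem pi_mem_closure {ι : Type*} [Finite ι] [DecidableEq ι] {K : Subgroup G} (S : Subgroup G)
    (H : (ι → K) →* G) (f : ι → K) (h : ∀ i, H (Pi.mulSingle i (f i)) ∈ S) : H f ∈ S :=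
  Subgroup.pi_mem_of_mulSingle_mem (H := S.comap H) f h

/-- A perfect group with image of prime exponent acts trivially. -/
theorem false_of_pow_trivial [Finite G] {p : ℕ} [Fact p.Prime] {K : Subgroup G} (hK : QS K)
    (hne : ∃ k ∈ K, φ k ≠ 1) (hexp : ∀ k : K, φ (k : G) ^ p = 1) : False := by
  set ψ := φ.toHomUnits.comp K.subtype with hψ
  have hP : IsPGroup p ψ.range := by
    rintro ⟨_, k, rfl⟩
    refine ⟨1, Subtype.ext (Units.ext ?_)⟩
    show ((ψ k ^ p ^ 1 : (AddMonoid.End V)ˣ) : AddMonoid.End V) = 1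
    rw [pow_one, Units.val_pow_eq_pow_val]
    exact hexp k
  have : Finite ψ.range := Finite.of_surjective ψ.rangeRestrict ψ.rangeRestrict_surjective
  have := hP.isNilpotent
  have hperf : ⁅(⊤ : Subgroup ψ.range), (⊤ : Subgroup ψ.range)⁆ = ⊤ := by
    apply Subgroup.map_injective ψ.range.subtype_injective
    rw [Subgroup.map_commutator, ← MonoidHom.range_eq_map, Subgroup.range_subtype, hψ,
      MonoidHom.range_comp, Subgroup.range_subtype, ← Subgroup.map_commutator, hK.perfect]
  have hsol : Group.IsSolvable ψ.range := inferInstance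
  have : Nontrivial ψ.range := by
    obtain ⟨k, hk, hk1⟩ := hne
    exact ⟨⟨⟨ψ ⟨k, hk⟩, ⟨k, hk⟩, rfl⟩, 1, fun h => hk1 (congrArg (fun z => (z.1 : AddMonoid.End V)) h)⟩⟩
  exact hperf.not_lt (Group.IsSolvable.commutator_lt_top_of_nontrivial ψ.range)

section Odd

variable [Finite G] {p : ℕ} [hp : Fact p.Prime] {a : G} {K : Subgroup G}

/-- The conjugate of an element of `K` by a power of `a`. -/
def shiftHom (a : G) (K : Subgroup G) (i : ZMod p) : K →* G :=
  (MulAut.conj (a ^ i.val)).toMonoidHom.comp K.subtype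

omit hp in
theorem shiftHom_apply (i : ZMod p) (x : K) : shiftHom a K i x = a ^ i.val * x * (a ^ i.val)⁻¹ := rfl

theorem pow_val_succ (ha : a ^ p = 1) (i : ZMod p) : a * a ^ i.val = a ^ (i + 1).val := by
  rw [← pow_succ', ZMod.val_add, ZMod.val_one, ← pow_mod_orderOf, ← pow_mod_orderOf a ((i.val + 1) % p),
    Nat.mod_mod_of_dvd _ (orderOf_dvd_of_pow_eq_one ha)]

theorem conj_shiftHom (ha : a ^ p = 1) (i : ZMod p) (x : K) :
    a * shiftHom a K i x * a⁻¹ = shiftHom a K (i + 1) x := by
  rw [shiftHom_apply, shiftHom_apply, ← pow_val_succ ha]; group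

theorem shiftHom_comm (hsep : ∀ i : ℕ, ¬ p ∣ i → ∀ x ∈ K, ∀ y ∈ K, Commute (a ^ i * x * (a ^ i)⁻¹) y)
    (ha : a ^ p = 1) : Pairwise fun i j : ZMod p => ∀ x y : K, Commute (shiftHom a K i x) (shiftHom a K j y) := by
  intro i j hij x y
  have e : a ^ i.val = a ^ j.val * a ^ (i - j).val := by
    rw [← pow_add, ← pow_mod_orderOf, ← pow_mod_orderOf a (j.val + (i - j).val),
      ← Nat.mod_mod_of_dvd (j.val + (i - j).val) (orderOf_dvd_of_pow_eq_one ha), ← ZMod.val_add,
      add_sub_cancel]
  have hnd : ¬ p ∣ (i - j).val := fun hd => by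
    rw [← ZMod.natCast_eq_zero_iff, ZMod.natCast_val, ZMod.cast_id', id] at hd
    exact hij (sub_eq_zero.1 hd)
  have h := Commute.map (hsep _ hnd x x.2 y y.2) (MulAut.conj (a ^ j.val))
  simp only [MulAut.conj_apply] at h
  rw [shiftHom_apply, shiftHom_apply, e]
  convert h using 1
  group

set_option maxHeartbeats 1600000 in
/-- **The odd case**: an orbit of length at least three is impossible. -/
theorem no_odd_orbit (hp2 : p ≠ 2) (hK : QS K) (hne : ∃ k ∈ K, φ k ≠ 1) (hV : ∀ v : V, p • v = 0)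
    (ha : a ^ p = 1) (hsep : ∀ i : ℕ, ¬ p ∣ i → ∀ x ∈ K, ∀ y ∈ K, Commute (a ^ i * x * (a ^ i)⁻¹) y)
    {n : G} (hna : Commute n a) (hn : n ∈ Subgroup.normalizer (K : Set G))
    (hquad : φ n * (φ a - 1) = φ a - 1) (hnc : n ∉ Subgroup.centralizer (K : Set G)) : False := by
  classical
  have hcomm := shiftHom_comm hsep ha
  obtain ⟨H, hHs⟩ : ∃ H : (ZMod p → K) →* G, ∀ i x, H (Pi.mulSingle i x) = shiftHom a K i x :=
    ⟨MonoidHom.noncommPiCoprod (shiftHom a K) hcomm, fun i x =>
      MonoidHom.noncommPiCoprod_mulSingle (ϕ := shiftHom a K) (hcomm := hcomm) i x⟩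
  -- conjugation by `a` shifts
  have hshift : ∀ f : ZMod p → K, a * H f * a⁻¹ = H fun i => f (i - 1) := by
    let T : (ZMod p → K) →* (ZMod p → K) :=
      { toFun := fun f i => f (i - 1)
        map_one' := rfl
        map_mul' := fun _ _ => rfl }
    have he : (MulAut.conj a).toMonoidHom.comp H = H.comp T := MonoidHom.pi_ext fun i x => by
      show a * H (Pi.mulSingle i x) * a⁻¹ = H (T (Pi.mulSingle i x))
      have hT : T (Pi.mulSingle i x) = Pi.mulSingle (i + 1) x := funext fun j => by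
        show (Pi.mulSingle i x : ZMod p → K) (j - 1) = (Pi.mulSingle (i + 1) x : ZMod p → K) j
        simp only [Pi.mulSingle_apply, sub_eq_iff_eq_add]
      rw [hT, hHs, hHs, conj_shiftHom ha]
    exact fun f => DFunLike.congr_fun he f
  have hnH : ∀ f : ZMod p → K, ∀ hf : ∀ i, n * (f i : G) * n⁻¹ ∈ K,
      n * H f * n⁻¹ = H fun i => ⟨n * f i * n⁻¹, hf i⟩ := by
    let c : K →* K :=
      { toFun := fun x => ⟨n * x * n⁻¹, (Subgroup.mem_normalizer_iff.1 hn _).1 x.2⟩
        map_one' := Subtype.ext (by simp)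
        map_mul' := fun x y => Subtype.ext (by push_cast; group) }
    let T : (ZMod p → K) →* (ZMod p → K) :=
      { toFun := fun f i => c (f i)
        map_one' := funext fun _ => map_one c
        map_mul' := fun _ _ => funext fun _ => map_mul c _ _ }
    have he : (MulAut.conj n).toMonoidHom.comp H = H.comp T := MonoidHom.pi_ext fun i x => by
      show n * H (Pi.mulSingle i x) * n⁻¹ = H (T (Pi.mulSingle i x))
      have hT : T (Pi.mulSingle i x) = Pi.mulSingle i (c x) := funext fun j => by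
        show c ((Pi.mulSingle i x : ZMod p → K) j) = _
        exact Pi.apply_mulSingle (fun _ => c) (fun _ => map_one c) i x j
      rw [hT, hHs, hHs, shiftHom_apply, shiftHom_apply]
      show n * (a ^ i.val * (x : G) * (a ^ i.val)⁻¹) * n⁻¹ =
        a ^ i.val * (n * (x : G) * n⁻¹) * (a ^ i.val)⁻¹
      have hc := (hna.pow_right i.val).eq
      calc n * (a ^ i.val * (x : G) * (a ^ i.val)⁻¹) * n⁻¹ =
            (n * a ^ i.val) * x * (n * a ^ i.val)⁻¹ := by group
        _ = _ := by rw [hc]; group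
    exact fun f hf => DFunLike.congr_fun he f
  let δ : K →* G := H.comp
    { toFun := fun x _ => x, map_one' := rfl, map_mul' := fun _ _ => rfl }
  have hδa : ∀ k, Commute a (δ k) := fun k => by
    have h := hshift fun _ => k
    show a * δ k = δ k * a
    calc a * δ k = a * δ k * a⁻¹ * a := by group
      _ = δ k * a := by rw [show a * δ k * a⁻¹ = δ k from h]
  have hfix := fun k => (diag_fixes φ hK δ hδa hna hn (fun k hk => (hnH (fun _ => k) fun _ => hk).symm)
    hquad hnc k).2
  let F : ZMod p → K → AddMonoid.End V := fun i x => φ (shiftHom a K i x)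
  -- the identity, for an arbitrary choice of conjugates
  have hid : ∀ (k : K) (y : ZMod p → K) (i : ZMod p),
      (F (i + 1) (y (i + 1) * k * (y (i + 1))⁻¹) - F i (y i * k * (y i)⁻¹)) *
        (φ (H fun j => y j * k * (y j)⁻¹) - 1) = 0 := by
    intro k y i
    have hx : Commute (shiftHom a K i k) (δ k) := by
      rw [← hHs]
      refine Commute.map (funext fun j => ?_) H
      show (Pi.mulSingle i k : ZMod p → K) j * k = k * (Pi.mulSingle i k : ZMod p → K) j
      rcases eq_or_ne j i with rfl | hj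
      · rw [Pi.mulSingle_eq_same]
      · rw [Pi.mulSingle_eq_of_ne hj, one_mul, mul_one]
    have h0 := conj_zero φ (y := H y) (conj_eq_on_moved φ (hδa k) hx (hfix k))
    rw [conj_shiftHom ha] at h0
    have e1 : ∀ j, H y * shiftHom a K j k * (H y)⁻¹ = shiftHom a K j (y j * k * (y j)⁻¹) := fun j => by
      rw [← hHs, ← map_inv, ← map_mul, ← map_mul, ← hHs]
      congr 1
      funext l
      rcases eq_or_ne l j with rfl | hl
      · simp
      · simp [Pi.mulSingle_eq_of_ne hl]
    have e2 : H y * δ k * (H y)⁻¹ = H fun j => y j * k * (y j)⁻¹ := by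
      show H y * H (fun _ => k) * (H y)⁻¹ = _
      rw [← map_inv, ← map_mul, ← map_mul]; rfl
    calc (F (i + 1) (y (i + 1) * k * (y (i + 1))⁻¹) - F i (y i * k * (y i)⁻¹)) *
          (φ (H fun j => y j * k * (y j)⁻¹) - 1)
        = φ (H y) * ((φ (shiftHom a K (i + 1) k) - φ (shiftHom a K i k)) * (φ (δ k) - 1)) *
          φ (H y)⁻¹ := by
          simp only [F, ← e1, ← e2]
          simp only [map_mul]
          have hu : φ (H y)⁻¹ * φ (H y) = 1 := by rw [← map_mul, inv_mul_cancel, map_one]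
          have hu' : φ (H y) * φ (H y)⁻¹ = 1 := by rw [← map_mul, mul_inv_cancel, map_one]
          set P := φ (H y)
          set Q := φ (H y)⁻¹
          simp only [sub_mul, mul_sub, mul_one, one_mul, mul_assoc]
          simp only [← mul_assoc Q P, hu, hu', one_mul]
      _ = 0 := h0
  -- vary the conjugate in a coordinate off `{i, i + 1}`
  have hoff : ∀ (k g : K) (y : ZMod p → K) (i j : ZMod p), j ≠ i → j ≠ i + 1 →
      (F (i + 1) (y (i + 1) * k * (y (i + 1))⁻¹) - F i (y i * k * (y i)⁻¹)) *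
        (F j (⁅g, y j * k * (y j)⁻¹⁆) - 1) = 0 := by
    intro k g y i j hji hji'
    have h1 := hid k y i
    have h2 := hid k (Function.update y j (g * y j)) i
    rw [Function.update_of_ne hji'.symm, Function.update_of_ne hji.symm] at h2
    set f₀ : ZMod p → K := fun l => y l * k * (y l)⁻¹ with hf0
    set c := ⁅g, f₀ j⁆ with hc
    have e : (fun l => Function.update y j (g * y j) l * k * (Function.update y j (g * y j) l)⁻¹) =
        Pi.mulSingle j c * f₀ := by
      funext l
      rcases eq_or_ne l j with rfl | hl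
      · simp only [Function.update_self, Pi.mul_apply, Pi.mulSingle_eq_same, hc, hf0,
          commutatorElement_def]
        group
      · simp [Function.update_of_ne hl, Pi.mulSingle_eq_of_ne hl, hf0]
    rw [e, map_mul, map_mul, hHs] at h2
    set X := F (i + 1) (f₀ (i + 1)) - F i (f₀ i) with hX
    have h3 : X * ((F j c - 1) * φ (H f₀)) = 0 := by
      calc X * ((F j c - 1) * φ (H f₀)) =
            X * (φ (shiftHom a K j c) * φ (H f₀) - 1) - X * (φ (H f₀) - 1) := by noncomm_ring
        _ = 0 := by rw [h2, h1, sub_zero]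
    calc X * (F j c - 1) = X * ((F j c - 1) * φ (H f₀)) * φ (H f₀)⁻¹ := by
          rw [mul_assoc X, mul_assoc (F j c - 1), ← map_mul, mul_inv_cancel, map_one, mul_one]
      _ = 0 := by rw [h3, zero_mul]
  have hF1 : ∀ l, F l 1 = 1 := fun l => by simp [F]
  have hFm : ∀ l x y, F l (x * y) = F l x * F l y := fun l x y => by simp [F]
  -- the two components kill each other
  have hpair : ∀ i j : ZMod p, i ≠ j → ∀ x z : K, (F i x - 1) * (F j z - 1) = 0 := by
    intro i j hij
    obtain ⟨k₀, hk₀, hk₀c⟩ := SetLike.not_le_iff_exists.1 hK.noncomm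
    set k : K := ⟨k₀, hk₀⟩
    obtain ⟨i', hi', hj1, hj2⟩ : ∃ i', (i = i' ∨ i = i' + 1) ∧ j ≠ i' ∧ j ≠ i' + 1 := by
      by_cases h : j = i + 1
      · refine ⟨i - 1, Or.inr (by ring), fun h' => ?_, by rw [sub_add_cancel]; exact hij.symm⟩
        have h2 : ((2 : ℕ) : ZMod p) = 0 := by push_cast; linear_combination h' - h
        rw [ZMod.natCast_eq_zero_iff] at h2
        exact hp2 ((Nat.prime_dvd_prime_iff_eq hp.out Nat.prime_two).1 h2)
      · exact ⟨i, Or.inl rfl, hij.symm, h⟩
    -- vary the conjugate in coordinate `i`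
    have hvar : ∀ g g' : K, (F i ⁅g', k⁆ - 1) * (F j ⁅g, k⁆ - 1) = 0 := by
      intro g g'
      have h1 := hoff k g 1 i' j hj1 hj2
      have h2 := hoff k g (Pi.mulSingle i g') i' j hj1 hj2
      simp only [Pi.one_apply, one_mul, inv_one, mul_one] at h1
      rw [Pi.mulSingle_eq_of_ne hij.symm] at h2
      have e : F i (g' * k * g'⁻¹) = F i ⁅g', k⁆ * F i k := by
        rw [← hFm, commutatorElement_def]; group
      set W := F j ⁅g, k⁆ - 1 with hW
      have hcW : Commute (F i k) W :=
        ((Commute.map (hcomm hij k ⁅g, k⁆) φ)).sub_right (Commute.one_right _)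
      have key : (F i ⁅g', k⁆ - 1) * (W * F i k) = 0 := by
        rcases hi' with hi' | hi'
        · subst hi'
          have hne' : i + 1 ≠ i := fun h => by simp at h
          simp only [Pi.mulSingle_eq_same, Pi.mulSingle_eq_of_ne hne', one_mul, inv_one, mul_one, e, ← hW] at h2
          calc (F i ⁅g', k⁆ - 1) * (W * F i k) = (F i ⁅g', k⁆ * F i k - F i k) * W := by
                rw [← hcW.eq]; noncomm_ring
            _ = (F (i + 1) k - F i k) * W - (F (i + 1) k - F i ⁅g', k⁆ * F i k) * W := by noncomm_ring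
            _ = 0 := by rw [h1, h2, sub_zero]
        · subst hi'
          have hne' : i' ≠ i' + 1 := fun h => by simp at h
          simp only [Pi.mulSingle_eq_same, Pi.mulSingle_eq_of_ne hne', one_mul, inv_one, mul_one, e, ← hW] at h2
          calc (F (i' + 1) ⁅g', k⁆ - 1) * (W * F (i' + 1) k) =
                (F (i' + 1) ⁅g', k⁆ * F (i' + 1) k - F (i' + 1) k) * W := by
                rw [← hcW.eq]; noncomm_ring
            _ = (F (i' + 1) ⁅g', k⁆ * F (i' + 1) k - F i' k) * W - (F (i' + 1) k - F i' k) * W := by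
                noncomm_ring
            _ = 0 := by rw [h2, h1, sub_zero]
      calc (F i ⁅g', k⁆ - 1) * W = (F i ⁅g', k⁆ - 1) * (W * F i k) * F i k⁻¹ := by
            rw [mul_assoc (F i ⁅g', k⁆ - 1), mul_assoc W, ← hFm, mul_inv_cancel, hF1, mul_one]
        _ = 0 := by rw [key, zero_mul]
    have hgen : ∀ (S : Subgroup K), (∀ g : K, ⁅g, k⁆ ∈ S) → ∀ x, x ∈ S := by
      intro S hS x
      have hle := hK.le_of_commutators hk₀ hk₀c (S.map K.subtype) fun g hg => ⟨_, hS ⟨g, hg⟩, rfl⟩
      exact (Subgroup.mem_map_iff_mem K.subtype_injective).1 (hle x.2)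
    have hsub : ∀ A B : AddMonoid.End V, A * (B - 1) = 0 ↔ A * B = A := fun A B => by
      rw [mul_sub, mul_one, sub_eq_zero]
    have hsub' : ∀ A B : AddMonoid.End V, (A - 1) * B = 0 ↔ A * B = B := fun A B => by
      rw [sub_mul, one_mul, sub_eq_zero]
    intro x z
    have hz : ∀ g', (F i ⁅g', k⁆ - 1) * (F j z - 1) = 0 := fun g' =>
      (hsub _ _).2 (hgen ((stabR φ (F i ⁅g', k⁆ - 1)).comap (shiftHom a K j))
        (fun g => (hsub _ _).1 (hvar g g')) z)
    exact (hsub' _ _).2 (hgen ((stabL φ (F j z - 1)).comap (shiftHom a K i))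
      (fun g' => (hsub' _ _).1 (hz g')) x)
  -- hence each element is unipotent
  have hcube : ∀ k : K, (F 0 k - 1) ^ 3 = 0 := by
    intro k
    have h := hid k 1 0
    simp only [Pi.one_apply, one_mul, inv_one, mul_one, zero_add] at h
    have h01 : (0 : ZMod p) ≠ 1 := zero_ne_one
    set g : ZMod p → K := fun l => if l = 0 ∨ l = 1 then 1 else k with hg
    have hsplit : (fun _ : ZMod p => k) = Pi.mulSingle 0 k * Pi.mulSingle 1 k * g := by
      funext l
      by_cases h0 : l = 0
      · subst h0; simp [hg]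
      · by_cases h1 : l = 1
        · subst h1; simp [hg, h0]
        · simp [hg, h0, h1, Pi.mulSingle_eq_of_ne]
    rw [show (fun _ : ZMod p => k) = Pi.mulSingle 0 k * Pi.mulSingle 1 k * g from hsplit, map_mul,
      map_mul, map_mul, map_mul, hHs, hHs] at h
    change (F 1 k - F 0 k) * (F 0 k * F 1 k * φ (H g) - 1) = 0 at h
    have hgfix : ∀ l : ZMod p, (l = 0 ∨ l = 1) → (F l k - 1) * φ (H g) = F l k - 1 := by
      intro l hl
      refine pi_mem_closure (stabR φ (F l k - 1)) H g fun j => ?_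
      rcases eq_or_ne j l with rfl | hjl
      · have : g j = 1 := by simp [hg, hl]
        rw [this, Pi.mulSingle_one, map_one]
        exact one_mem _
      · rw [hHs]
        have := hpair l j (Ne.symm hjl) k (g j)
        rwa [mul_sub, mul_one, sub_eq_zero] at this
    set u := F 0 k - 1 with hu
    set w := F 1 k - 1 with hw
    have huw : u * w = 0 := hpair 0 1 h01 k k
    have hwu : w * u = 0 := hpair 1 0 h01.symm k k
    have hsq : u * u = w * w := by
      have hd : (w - u) * φ (H g) = w - u := by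
        rw [sub_mul, hgfix 1 (Or.inr rfl), hgfix 0 (Or.inl rfl)]
      have e0 : F 0 k * F 1 k = 1 + u + w := by
        have : (u + 1) * (w + 1) = 1 + u + w := by rw [add_mul, one_mul, mul_add, huw, mul_one]; abel
        rwa [hu, hw, sub_add_cancel, sub_add_cancel, ← hu, ← hw] at this
      have hc : Commute (w - u) (F 0 k * F 1 k) := by
        rw [e0]
        refine ((Commute.one_right _).add_right ?_).add_right ?_
        · show (w - u) * u = u * (w - u); rw [sub_mul w u u, mul_sub u w u, hwu, huw]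
        · show (w - u) * w = w * (w - u); rw [sub_mul w u w, mul_sub w w u, hwu, huw]
      have e1 : (F 1 k - F 0 k) = w - u := by rw [hw, hu]; abel
      rw [e1, mul_sub, mul_one, ← mul_assoc, hc.eq, mul_assoc, hd, ← hc.eq, e0] at h
      have e2 : (w - u) * (1 + u + w) - (w - u) = w * w - u * u + (w * u - u * w) := by noncomm_ring
      rw [e2, hwu, huw, sub_zero, add_zero, sub_eq_zero] at h
      exact h.symm
    rw [pow_succ, pow_two, hsq, mul_assoc, hwu, mul_zero]
  -- so the image of `K` has exponent `p`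
  have h3p : 3 ≤ p := by
    have := hp.out.two_le; omega
  have hexp : ∀ k : K, φ (k : G) ^ p = 1 := fun k => by
    have e : F 0 k = φ (k : G) := by simp [F, shiftHom_apply]
    rw [← e, ← sub_eq_zero, ← sub_one_pow_prime hV]
    exact pow_eq_zero_of_le h3p (hcube k)
  exact false_of_pow_trivial φ hK hne hexp

end Odd

end Cfsg.Agent.PGV
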