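import Cfsg.Agent.Lib.Lead.PGV.Orbit
import Cfsg.Agent.Lib.Char.Burnside

/-!
# A best offender cannot act regularly on a set of components
-/

set_option autoImplicit false
open scoped commutatorElement

namespace Cfsg.Agent.PGV

universe u v

variable {G : Type u} [Group G] {V : Type v} [AddCommGroup V] (φ : G →* AddMonoid.End V)

/-- A noncentral element of prime power order, for a prime avoiding two given ones. -/
theorem QS.exists_prime_element [Finite G] {K : Subgroup G} (h : QS K) {s : ℕ} (hs : s.Prime) :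
    ∃ r : ℕ, r.Prime ∧ r ≠ 2 ∧ r ≠ s ∧ ∃ g ∈ K, g ∉ Subgroup.centralizer (K : Set G) ∧
      g ^ r ∈ Subgroup.centralizer (K : Set G) ∧ ∃ e : ℕ, orderOf g = r ^ e := by
  set Z : Subgroup K := (Subgroup.centralizer (K : Set G)).subgroupOf K with hZ
  haveI hZn : Z.Normal := ⟨fun z hz k => by
    rw [hZ, Subgroup.mem_subgroupOf] at hz ⊢
    have e : ((k * z * k⁻¹ : K) : G) = z := by
      push_cast
      rw [Subgroup.mem_centralizer_iff.1 hz (k : G) k.2, mul_inv_cancel_right]
    rw [e]; exact hz⟩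
  by_contra hno
  push Not at hno
  have hpr : ∀ r : ℕ, r.Prime → r ∣ Nat.card (K ⧸ Z) → r = 2 ∨ r = s := by
    intro r hr hd
    by_contra hne
    push Not at hne
    haveI := Fact.mk hr
    obtain ⟨q, hq⟩ := exists_prime_orderOf_dvd_card' r hd
    obtain ⟨x, rfl⟩ := QuotientGroup.mk_surjective q
    set m := (orderOf (x : G)) / r ^ (orderOf (x : G)).factorization r with hm
    have hm' : m.Coprime r := ((Nat.coprime_ordCompl hr (orderOf_pos (x : G)).ne').symm)
    have hmd : m ∣ orderOf (x : G) := Nat.ordCompl_dvd _ _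
    refine hno r hr hne.1 hne.2 ((x : G) ^ m) (pow_mem x.2 m) ?_ ?_ ((orderOf (x : G)).factorization r) ?_
    · intro hc
      have h0 : ((x ^ m : K) : K ⧸ Z) = 1 := (QuotientGroup.eq_one_iff _).2 (by
        rw [hZ, Subgroup.mem_subgroupOf]; push_cast; exact hc)
      rw [QuotientGroup.mk_pow] at h0
      have := Nat.dvd_gcd (orderOf_dvd_of_pow_eq_one h0) hq.dvd
      rw [hq, hm'.gcd_eq_one, Nat.dvd_one] at this
      exact hr.ne_one this
    · have h0 : ((x ^ (m * r) : K) : K ⧸ Z) = 1 := by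
        rw [QuotientGroup.mk_pow]; exact orderOf_dvd_iff_pow_eq_one.1 (hq ▸ dvd_mul_left r m)
      rw [QuotientGroup.eq_one_iff, hZ, Subgroup.mem_subgroupOf] at h0
      push_cast at h0
      rwa [← pow_mul]
    · rw [orderOf_pow_of_dvd (by
          intro hm0
          exact (orderOf_pos (x : G)).ne' (Nat.eq_zero_of_zero_dvd (hm0 ▸ hmd))) hmd,
        Nat.div_div_self (Nat.ordProj_dvd _ _) (orderOf_pos _).ne']
  haveI hsol : Group.IsSolvable (K ⧸ Z) :=
    Char.isSolvable_of_two_primes Nat.prime_two hs _ rfl hpr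
  haveI : Nontrivial (K ⧸ Z) := by
    obtain ⟨x, hx, hxc⟩ := SetLike.not_le_iff_exists.1 h.noncomm
    exact ⟨⟨QuotientGroup.mk ⟨x, hx⟩, 1, fun e => hxc (Subgroup.mem_subgroupOf.1
      ((QuotientGroup.eq_one_iff _).1 e))⟩⟩
  have hK : ⁅(⊤ : Subgroup K), (⊤ : Subgroup K)⁆ = ⊤ := by
    apply Subgroup.map_injective K.subtype_injective
    rw [Subgroup.map_commutator, ← MonoidHom.range_eq_map, Subgroup.range_subtype, h.perfect]
  have hQ : ⁅(⊤ : Subgroup (K ⧸ Z)), (⊤ : Subgroup (K ⧸ Z))⁆ = ⊤ := by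
    rw [← Subgroup.map_top_of_surjective (QuotientGroup.mk' Z) (QuotientGroup.mk'_surjective Z),
      ← Subgroup.map_commutator, hK]
  exact hQ.not_lt (Group.IsSolvable.commutator_lt_top_of_nontrivial (K ⧸ Z))

/-- The arithmetic behind the regular case. -/
theorem regular_bound {r P : ℕ} (h : (2 ≤ P ∧ 5 ≤ r) ∨ (5 ≤ P ∧ 3 ≤ r)) : P * P < r ^ (P - 1) := by
  rcases h with ⟨h2, h5⟩ | ⟨h5, h3⟩
  · refine lt_of_lt_of_le ?_ (Nat.pow_le_pow_left h5 _)
    obtain ⟨k, rfl⟩ := Nat.exists_eq_add_of_le h2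
    rw [show 2 + k - 1 = k + 1 by omega]
    clear h2
    induction k with
    | zero => norm_num
    | succ k ih => rw [pow_succ]; nlinarith
  · refine lt_of_lt_of_le ?_ (Nat.pow_le_pow_left h3 _)
    obtain ⟨k, rfl⟩ := Nat.exists_eq_add_of_le h5
    rw [show 5 + k - 1 = k + 4 by omega]
    clear h5
    induction k with
    | zero => norm_num
    | succ k ih =>
      rw [show k + 1 + 4 = (k + 4) + 1 by omega, pow_succ]; nlinarith

set_option maxHeartbeats 1600000 in
/-- An offender moving every conjugate of `K` regularly does not exist. -/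
theorem no_regular_orbit [Finite G] [Finite V] {p : ℕ} [hp : Fact p.Prime] (hV : ∀ v : V, p • v = 0)
    {K A : Subgroup G} (hK : QS K) (hne : ∃ k ∈ K, φ k ≠ 1) (hAp : IsPGroup p A) (hA : A ≠ ⊥)
    (hab : ∀ a ∈ A, ∀ b ∈ A, Commute a b)
    (hmove : ∀ a ∈ A, a ≠ 1 → ∀ x ∈ K, ∀ y ∈ K, Commute (a * x * a⁻¹) y)
    (hoff : Nat.card V ≤ Nat.card A * Nat.card (fixSet φ (A : Set G))) : False := by
  classical
  have hAcard : ∃ k, k ≠ 0 ∧ Nat.card A = p ^ k := by
    obtain ⟨k, hk⟩ := IsPGroup.iff_card.1 hAp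
    exact ⟨k, fun h0 => hA (Subgroup.eq_bot_of_card_eq A (by rw [hk, h0, pow_zero])), hk⟩
  obtain ⟨k, hk0, hk⟩ := hAcard
  have hpP : p ≤ Nat.card A := hk ▸ Nat.le_self_pow hk0 p
  have h2P : 2 ≤ Nat.card A := le_trans hp.out.two_le hpP
  obtain ⟨s, hs, hsdef⟩ : ∃ s : ℕ, s.Prime ∧ s = if p ≤ 3 then 3 else p :=
    ⟨_, by split_ifs; exacts [Nat.prime_three, hp.out], rfl⟩
  obtain ⟨r, hr, hr2, hrs, g, hgK, hgc, hgr, e, hge⟩ := hK.exists_prime_element hs
  have hr3 : 3 ≤ r := by have := hr.two_le; omega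
  have hrp : r ≠ p := by
    split_ifs at hsdef with h
    · intro hrp; have := hp.out.two_le; omega
    · exact hsdef ▸ hrs
  have hbound : (2 ≤ Nat.card A ∧ 5 ≤ r) ∨ (5 ≤ Nat.card A ∧ 3 ≤ r) := by
    split_ifs at hsdef with h
    · left
      refine ⟨h2P, ?_⟩
      have h4 : r ≠ 4 := fun h4 => by rw [h4] at hr; norm_num at hr
      omega
    · right
      have h4 : p ≠ 4 := fun h4 => by have := hp.out; rw [h4] at this; norm_num at this
      omega
  -- the elements `g^a g⁻¹`
  let ψ : G →* (AddMonoid.End V)ˣ := φ.toHomUnits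
  have hψ : ∀ x, (ψ x : AddMonoid.End V) = φ x := fun _ => rfl
  haveI : Finite (AddMonoid.End V) :=
    Finite.of_injective (fun f : AddMonoid.End V => (f : V → V)) DFunLike.coe_injective
  let A' := {a : A // a ≠ 1}
  have := Fintype.ofFinite A'
  let t : A' → (AddMonoid.End V)ˣ := fun a => ψ ((a.1 : G) * g * (a.1 : G)⁻¹) * (ψ g)⁻¹
  set R : Subgroup (AddMonoid.End V)ˣ := Subgroup.closure (Set.range t) with hR
  -- images of conjugates commute
  have hcc : ∀ a b : A, a ≠ b → ∀ x ∈ K, ∀ y ∈ K,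
      Commute ((a : G) * x * (a : G)⁻¹) ((b : G) * y * (b : G)⁻¹) := by
    intro a b hab' x hx y hy
    have h1 := hmove ((b : G)⁻¹ * a) (mul_mem (inv_mem b.2) a.2)
      (fun h => hab' (Subtype.ext (inv_mul_eq_one.1 h).symm)) x hx y hy
    have h2 := Commute.map h1 (MulAut.conj (b : G))
    simp only [MulAut.conj_apply] at h2
    convert h2 using 1; group
  have hcg : ∀ a b : A, Commute ((a : G) * g * (a : G)⁻¹) ((b : G) * g * (b : G)⁻¹) := fun a b => by
    rcases eq_or_ne a b with rfl | h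
    · exact Commute.refl _
    · exact hcc a b h g hgK g hgK
  have ht : ∀ a : A', t a = ψ ((a.1 : G) * g * (a.1 : G)⁻¹ * g⁻¹) := fun a => by
    simp [t]
  have hcomm : ∀ x ∈ Set.range t, ∀ y ∈ Set.range t, x * y = y * x := by
    rintro _ ⟨a, rfl⟩ _ ⟨b, rfl⟩
    rw [ht, ht]
    have hag : ∀ a : A, Commute ((a : G) * g * (a : G)⁻¹) g := fun a => by simpa using hcg a 1
    exact (((hcg a.1 b.1).mul_right (hag a.1).inv_right).mul_left
      ((hag b.1).symm.inv_left.mul_right ((Commute.refl g).inv_left.inv_right))).map ψ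
  have hRc := Subgroup.isMulCommutative_closure hcomm
  letI : CommGroup R := { (inferInstance : Group R) with mul_comm := hRc.1.1 }
  let tR : A' → R := fun a => ⟨t a, Subgroup.subset_closure ⟨a, rfl⟩⟩
  -- lower bound
  have hlow : r ^ (Nat.card A - 1) ≤ Nat.card R := by
    have hA' : Nat.card A' = Nat.card A - 1 := by
      haveI := Fintype.ofFinite A
      rw [Nat.card_eq_fintype_card, Nat.card_eq_fintype_card, Fintype.card_subtype_compl]
      simp
    rw [← hA', ← Nat.card_fin r, ← Nat.card_fun]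
    refine Nat.card_le_card_of_injective (fun f : A' → Fin r => ∏ a, tR a ^ (f a : ℕ)) ?_
    intro f f' hff
    funext a₀
    set Ka : Set G := (fun x => (a₀.1 : G) * x * (a₀.1 : G)⁻¹) '' K with hKa
    set C : Subgroup R := (Subgroup.centralizer (ψ '' Ka)).comap R.subtype with hC
    have hoth : ∀ a, a ≠ a₀ → tR a ∈ C := fun a ha => by
      refine Subgroup.mem_centralizer_iff.2 ?_
      rintro _ ⟨_, ⟨x, hx, rfl⟩, rfl⟩
      show ψ _ * t a = t a * ψ _
      rw [ht]
      refine (Commute.map ?_ ψ).eq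
      refine Commute.mul_right ?_ (Commute.inv_right ?_)
      · exact hcc a₀.1 a.1 (fun h => ha (Subtype.ext h.symm)) x hx g hgK
      · simpa using hcc a₀.1 1 a₀.2 x hx g hgK
    simp only [← Finset.mul_prod_erase _ _ (Finset.mem_univ a₀)] at hff
    set P := ∏ a ∈ Finset.univ.erase a₀, tR a ^ (f a : ℕ) with hP
    set P' := ∏ a ∈ Finset.univ.erase a₀, tR a ^ (f' a : ℕ) with hP'
    have hPm : P ∈ C := Subgroup.prod_mem _ fun a ha => pow_mem (hoth a (Finset.ne_of_mem_erase ha)) _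
    have hPm' : P' ∈ C := Subgroup.prod_mem _ fun a ha => pow_mem (hoth a (Finset.ne_of_mem_erase ha)) _
    have hz : tR a₀ ^ ((f a₀ : ℤ) - (f' a₀ : ℤ)) ∈ C := by
      rw [zpow_sub, zpow_natCast, zpow_natCast]
      have : tR a₀ ^ (f a₀ : ℕ) * (tR a₀ ^ (f' a₀ : ℕ))⁻¹ = P' * P⁻¹ := by
        rw [← div_eq_mul_inv, ← div_eq_mul_inv, div_eq_div_iff_mul_eq_mul, hff, mul_comm]
      rw [this]
      exact mul_mem hPm' (inv_mem hPm)
    set d : ℤ := (f a₀ : ℤ) - (f' a₀ : ℤ) with hd
    have hdc : g ^ d ∈ Subgroup.centralizer (K : Set G) := by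
      refine hK.central_of_image_comm φ hne (zpow_mem hgK d) fun x hx => ?_
      set a := (a₀.1 : G) with ha
      have h1 : ψ (a * x * a⁻¹) * ψ ((a * g * a⁻¹ * g⁻¹) ^ d) =
          ψ ((a * g * a⁻¹ * g⁻¹) ^ d) * ψ (a * x * a⁻¹) := by
        have h := Subgroup.mem_centralizer_iff.1 hz _ ⟨_, ⟨x, hx, rfl⟩, rfl⟩
        simpa [tR, ht, map_zpow] using h
      have hag : Commute (a * g * a⁻¹) g := by simpa using hcg a₀.1 1
      have hxg : Commute (a * x * a⁻¹) g := by simpa using hcc a₀.1 1 a₀.2 x hx g hgK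
      rw [hag.inv_right.mul_zpow] at h1
      have h2 : Commute (ψ (a * x * a⁻¹)) (ψ ((g⁻¹) ^ d)) := (hxg.inv_right.zpow_right d).map ψ
      have h3 : Commute (ψ (a * x * a⁻¹)) (ψ ((a * g * a⁻¹) ^ d)) := by
        have h1' : Commute (ψ (a * x * a⁻¹)) (ψ ((a * g * a⁻¹) ^ d) * ψ ((g⁻¹) ^ d)) := by
          rw [← map_mul ψ ((a * g * a⁻¹) ^ d)]
          exact h1
        have := h1'.mul_right h2.inv_right
        rwa [mul_inv_cancel_right] at this
      rw [conj_zpow] at h3
      have h4 := Commute.map h3 (MulAut.conj (ψ a)⁻¹)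
      simp [map_mul, mul_assoc] at h4
      have h5 := congrArg Units.val h4.eq.symm
      show φ (g ^ d) * φ x = φ x * φ (g ^ d)
      rw [← hψ, ← hψ, map_zpow]
      simpa [hψ] using h5
    have hd0 : (r : ℤ) ∣ d := by
      by_contra hdr
      obtain ⟨u, w, huw⟩ : IsCoprime (r : ℤ) d :=
        (Prime.coprime_iff_not_dvd (Nat.prime_iff_prime_int.1 hr)).2 hdr
      refine hgc ?_
      have e : g = (g ^ r) ^ u * (g ^ d) ^ w := by
        rw [← zpow_natCast, ← zpow_mul, ← zpow_mul, ← zpow_add, mul_comm (r : ℤ), mul_comm d, huw, zpow_one]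
      rw [e]
      exact mul_mem (zpow_mem hgr u) (zpow_mem hdc w)
    have h0 : d = 0 := Int.eq_zero_of_abs_lt_dvd hd0 (by
      have := (f a₀).isLt; have := (f' a₀).isLt
      rw [abs_lt]; omega)
    exact Fin.ext (by omega)
  -- upper bound
  set C₀ : AddSubgroup V := fixSet φ (A : Set G) ⊓ (fixSet φ (A : Set G)).comap (φ g⁻¹ : V →+ V) with hC₀
  have hfix : ∀ x ∈ R, ∀ v ∈ C₀, (x : AddMonoid.End V) v = v := by
    intro x hx
    induction hx using Subgroup.closure_induction with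
    | one => exact fun v _ => rfl
    | mem x hx =>
      obtain ⟨a, rfl⟩ := hx
      intro v hv
      have h2 : φ (a.1 : G)⁻¹ (φ g⁻¹ v) = φ g⁻¹ v := hv.2 _ (inv_mem a.1.2)
      rw [ht, hψ, map_mul, map_mul, map_mul, end_mul, end_mul, end_mul,
        h2, act_cancel_inv, hv.1 _ a.1.2]
    | mul x y _ _ ihx ihy => intro v hv; rw [Units.val_mul, end_mul, ihy v hv, ihx v hv]
    | inv x _ ih =>
      intro v hv
      conv_lhs => rw [← ih v hv]
      rw [← end_mul, ← Units.val_mul, inv_mul_cancel]; rfl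
  have hidx : Nat.card (V ⧸ C₀) ≤ Nat.card A * Nat.card A := by
    have hF : (fixSet φ (A : Set G)).index ≤ Nat.card A := by
      have := AddSubgroup.card_mul_index (fixSet φ (A : Set G))
      refine Nat.le_of_mul_le_mul_left ?_ (Nat.card_pos (α := fixSet φ (A : Set G)))
      rw [this]; linarith
    refine (AddSubgroup.index_inf_le).trans (Nat.mul_le_mul hF (le_trans (le_of_eq ?_) hF))
    exact AddSubgroup.index_comap_of_surjective _ fun v => ⟨φ g v, act_inv_cancel φ g v⟩
  have hRr : (Nat.card R).Coprime p := by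
    have hg : ∀ y : G, (ψ (y * g * y⁻¹)) ^ r ^ e = 1 := fun y => by
      rw [← map_pow, conj_pow, ← hge, pow_orderOf_eq_one, mul_one, mul_inv_cancel, map_one]
    have hP : IsPGroup r R := by
      rintro ⟨x, hx⟩
      refine ⟨e, Subtype.ext ?_⟩
      show x ^ r ^ e = 1
      induction hx using Subgroup.closure_induction with
      | one => rw [one_pow]
      | mem x hx =>
        obtain ⟨a, rfl⟩ := hx
        have h1 : Commute ((a.1 : G) * g * (a.1 : G)⁻¹) g := by simpa using hcg a.1 1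
        rw [show t a = ψ ((a.1 : G) * g * (a.1 : G)⁻¹) * (ψ g)⁻¹ from rfl,
          ((h1.map ψ).inv_right).mul_pow, hg, inv_pow, ← map_pow, ← hge, pow_orderOf_eq_one, map_one,
          inv_one, mul_one]
      | mul x y hx hy ihx ihy =>
        have hc : Commute (⟨x, hx⟩ : R) ⟨y, hy⟩ := mul_comm _ _
        rw [(show Commute x y from congrArg Subtype.val hc.eq).mul_pow, ihx, ihy, one_mul]
      | inv x _ ih => rw [inv_pow, ih, inv_one]
    haveI := Fact.mk hr
    obtain ⟨j, hj⟩ := IsPGroup.iff_card.1 hP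
    rw [hj]
    exact Nat.Coprime.pow_left _ ((Nat.coprime_primes hr hp.out).2 hrp)
  have hinv : ∀ x : R, ∀ v ∈ C₀, ((x : (AddMonoid.End V)ˣ) : AddMonoid.End V) v ∈ C₀ := fun x v hv => by
    rw [hfix x x.2 v hv]; exact hv
  let Ψ : R →* AddMonoid.End (V ⧸ C₀) :=
    { toFun := fun x => QuotientAddGroup.map C₀ C₀ ((x : (AddMonoid.End V)ˣ) : AddMonoid.End V)
        (fun v hv => hinv x v hv)
      map_one' := by refine QuotientAddGroup.addMonoidHom_ext C₀ ?_; ext v; rfl
      map_mul' := fun x y => by refine QuotientAddGroup.addMonoidHom_ext C₀ ?_; ext v; rfl }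
  have hΨ : Function.Injective Ψ := by
    refine (injective_iff_map_eq_one Ψ).2 fun x hx => Subtype.ext (Units.ext ?_)
    refine AddMonoidHom.ext fun v => ?_
    show ((x : (AddMonoid.End V)ˣ) : AddMonoid.End V) v = v
    refine fixed_of_fixed_diff ((Units.coeHom _).comp R.subtype) hV
      (hRr.coprime_dvd_left (orderOf_dvd_natCard x)) (hfix x x.2 _ ?_)
    rw [← QuotientAddGroup.eq_zero_iff, QuotientAddGroup.mk_sub, sub_eq_zero]
    exact DFunLike.congr_fun hx (QuotientAddGroup.mk v)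
  have hup := card_le_of_abelian_coprime _ rfl (fun m => by
      induction m using QuotientAddGroup.induction_on with
      | H x => rw [← QuotientAddGroup.mk_nsmul, hV, QuotientAddGroup.mk_zero]) hRr Ψ hΨ
  exact absurd ((hlow.trans hup).trans hidx) (regular_bound hbound).not_ge

end Cfsg.Agent.PGV
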