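import Cfsg.Agent.Lib.Lead.PGV.Basics
import Cfsg.Agent.Lib.Solv.SetMul

/-!
# Replacement for best offenders, in the language of endomorphism actions
-/

set_option autoImplicit false
open scoped Pointwise

namespace Cfsg.Agent.PGV

universe u v

section Aux

variable {V : Type v} [AddCommGroup V]

/-- The product formula for finite additive subgroups. -/
theorem card_inf_mul_sup [Finite V] (X Y : AddSubgroup V) :
    Nat.card X * Nat.card Y = Nat.card ↥(X ⊔ Y) * Nat.card ↥(X ⊓ Y) := by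
  have e := Solv.card_mul_set_mul_card_inf X.toSubgroup Y.toSubgroup
  rw [← Subgroup.normal_mul] at e
  have h1 : X.toSubgroup ⊔ Y.toSubgroup = (X ⊔ Y).toSubgroup := (AddSubgroup.toSubgroup.map_sup X Y).symm
  have h2 : X.toSubgroup ⊓ Y.toSubgroup = (X ⊓ Y).toSubgroup := (AddSubgroup.toSubgroup.map_inf X Y).symm
  rw [h1, h2] at e
  exact e.symm

/-- A subgroup covered by the images of commuting nilpotent endomorphisms is zero. -/
theorem eq_bot_of_le_iSup_map {k : ℕ} (s : Finset (AddMonoid.End V)) :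
    ∀ M : AddSubgroup V, (∀ f ∈ s, f ^ k = 0) → (∀ f ∈ s, ∀ g ∈ s, Commute f g) →
      (∀ f ∈ s, M.map (f : V →+ V) ≤ M) → M ≤ ⨆ f ∈ s, M.map (f : V →+ V) → M = ⊥ := by
  classical
  induction s using Finset.induction_on with
  | empty => intro M _ _ _ h; simpa using h
  | insert a s _ ih =>
    intro M hnil hcomm hM h
    rw [Finset.iSup_insert] at h
    set S : AddSubgroup V := ⨆ f ∈ s, M.map (f : V →+ V) with hS
    have haS : S.map (a : V →+ V) ≤ S := by
      refine (AddSubgroup.map_le_iff_le_comap (f := (a : V →+ V))).2 (iSup₂_le fun f hf => ?_)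
      refine fun w hw => (le_iSup₂_of_le (f := fun f _ => M.map (f : V →+ V)) f hf le_rfl : M.map (f : V →+ V) ≤ S) ?_
      obtain ⟨m, hm, rfl⟩ := hw
      refine ⟨(a : V →+ V) m, hM a (Finset.mem_insert_self a s) ⟨m, hm, rfl⟩, ?_⟩
      show (f * a) m = (a * f) m
      rw [(hcomm f (Finset.mem_insert_of_mem hf) a (Finset.mem_insert_self a s)).eq]
    have hk : ∀ j : ℕ, M ≤ M.map ((a ^ j : AddMonoid.End V) : V →+ V) ⊔ S := by
      intro j
      induction j with
      | zero => exact fun m hm => AddSubgroup.mem_sup_left ⟨m, hm, by rw [pow_zero]; rfl⟩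
      | succ j ihj =>
        refine h.trans (sup_le ?_ le_sup_right)
        refine (AddSubgroup.map_mono ihj).trans ?_
        refine (AddSubgroup.map_sup _ _ (a : V →+ V)).le.trans ?_
        refine sup_le_sup ?_ haS
        rintro _ ⟨_, ⟨m, hm, rfl⟩, rfl⟩
        exact ⟨m, hm, by rw [pow_succ']; rfl⟩
    have hMS : M ≤ S := (hk k).trans (by
      rw [hnil a (Finset.mem_insert_self a s)]
      refine sup_le ?_ le_rfl
      rintro _ ⟨m, hm, rfl⟩
      exact S.zero_mem)
    exact ih M (fun f hf => hnil f (Finset.mem_insert_of_mem hf))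
      (fun f hf g hg => hcomm f (Finset.mem_insert_of_mem hf) g (Finset.mem_insert_of_mem hg))
      (fun f hf => hM f (Finset.mem_insert_of_mem hf)) hMS

/-- The characteristic of the endomorphism ring of a `p`-torsion group. -/
theorem end_charP {p : ℕ} [hp : Fact p.Prime] [Nontrivial V] (hV : ∀ v : V, p • v = 0) :
    CharP (AddMonoid.End V) p := by
  have h1 : (p : AddMonoid.End V) = 0 := AddMonoidHom.ext fun v => by
    show (p : AddMonoid.End V) v = 0
    rw [AddMonoid.End.natCast_apply, hV]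
  have : Nontrivial (AddMonoid.End V) := by
    obtain ⟨v, hv⟩ := exists_ne (0 : V)
    exact ⟨⟨1, 0, fun h => hv (DFunLike.congr_fun h v)⟩⟩
  exact (CharP.charP_iff_prime_eq_zero hp.out).2 h1

/-- In characteristic `p`, commuting endomorphisms with the same `p`-th power differ by a nilpotent one. -/
theorem sub_one_pow_prime {p : ℕ} [hp : Fact p.Prime] (hV : ∀ v : V, p • v = 0) (f : AddMonoid.End V) :
    (f - 1) ^ p = f ^ p - 1 := by
  rcases subsingleton_or_nontrivial V with hs | hs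
  · exact AddMonoidHom.ext fun v => Subsingleton.elim _ _
  have := end_charP hV
  rw [sub_pow_char_of_commute (p := p) (Commute.one_right f), one_pow]

end Aux

section Measure

variable {G : Type u} [Group G] {V : Type v} [AddCommGroup V] (φ : G →* AddMonoid.End V)

/-- `|B| |C_V(B)|`. -/
noncomputable def meas (B : Subgroup G) : ℕ := Nat.card B * Nat.card (fixSet φ (B : Set G))

/-- `A` has measure at least that of each of its subgroups. -/
def IsBest (A : Subgroup G) : Prop := ∀ B ≤ A, meas φ B ≤ meas φ A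

theorem fixSet_anti {S T : Set G} (h : S ⊆ T) : fixSet φ T ≤ fixSet φ S := fun _ hv s hs => hv s (h hs)

theorem meas_bot : meas φ ⊥ = Nat.card V := by
  rw [meas, Subgroup.card_bot, one_mul]
  have h : fixSet φ ((⊥ : Subgroup G) : Set G) = ⊤ := top_le_iff.1 fun v _ s hs => by
    rw [Subgroup.mem_bot.1 hs, map_one]; rfl
  rw [h, AddSubgroup.card_top]

theorem IsBest.card_le {A : Subgroup G} (h : IsBest φ A) :
    Nat.card V ≤ Nat.card A * Nat.card (fixSet φ (A : Set G)) :=
  meas_bot φ ▸ h ⊥ bot_le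

theorem fixSet_sup (X Y : Subgroup G) :
    fixSet φ (X : Set G) ⊓ fixSet φ (Y : Set G) ≤ fixSet φ ((X ⊔ Y : Subgroup G) : Set G) := by
  intro v hv s hs
  have hle : X ⊔ Y ≤ pstab φ {v} := sup_le
    (fun x hx w hw => Set.mem_singleton_iff.1 hw ▸ hv.1 x hx)
    (fun x hx w hw => Set.mem_singleton_iff.1 hw ▸ hv.2 x hx)
  exact hle hs v rfl

theorem IsBest.inf [Finite G] [Finite V] {A X Y : Subgroup G} (h : IsBest φ A) (hXA : X ≤ A) (hYA : Y ≤ A)
    (hX : meas φ X = meas φ A) (hY : meas φ Y = meas φ A) :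
    meas φ (X ⊓ Y) = meas φ A ∧
      fixSet φ ((X ⊓ Y : Subgroup G) : Set G) = fixSet φ (X : Set G) ⊔ fixSet φ (Y : Set G) := by
  set WX := fixSet φ (X : Set G) with hWX
  set WY := fixSet φ (Y : Set G) with hWY
  set Wi := fixSet φ ((X ⊓ Y : Subgroup G) : Set G) with hWi
  have hle : WX ⊔ WY ≤ Wi := sup_le (fixSet_anti φ fun _ h => h.1) (fixSet_anti φ fun _ h => h.2)
  set M := meas φ A with hM
  have hMpos : 0 < M := Nat.mul_pos Nat.card_pos Nat.card_pos
  have hset : Nat.card ((X : Set G) * (Y : Set G) : Set G) ≤ Nat.card ↥(X ⊔ Y) :=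
    Nat.card_mono (Set.toFinite _) (by
      rintro _ ⟨b, hb, c, hc, rfl⟩
      exact mul_mem (Subgroup.mem_sup_left hb) (Subgroup.mem_sup_right hc))
  have h1 : M * M ≤ meas φ (X ⊔ Y) * (Nat.card ↥(X ⊓ Y) * Nat.card ↥(WX ⊔ WY)) := by
    calc M * M = (Nat.card X * Nat.card Y) * (Nat.card WX * Nat.card WY) := by
          nth_rewrite 1 [← hX]; rw [← hY]; simp only [meas, ← hWX, ← hWY]; ring
      _ = (Nat.card ((X : Set G) * (Y : Set G) : Set G) * Nat.card ↥(X ⊓ Y)) *
          (Nat.card ↥(WX ⊔ WY) * Nat.card ↥(WX ⊓ WY)) := by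
          rw [Solv.card_mul_set_mul_card_inf, card_inf_mul_sup]
      _ ≤ (Nat.card ↥(X ⊔ Y) * Nat.card ↥(X ⊓ Y)) *
          (Nat.card ↥(WX ⊔ WY) * Nat.card (fixSet φ ((X ⊔ Y : Subgroup G) : Set G))) :=
          Nat.mul_le_mul (Nat.mul_le_mul_right _ hset)
            (Nat.mul_le_mul_left _ (AddSubgroup.card_le_of_le (fixSet_sup φ X Y)))
      _ = _ := by simp only [meas]; ring
  have h2 : M ≤ Nat.card ↥(X ⊓ Y) * Nat.card ↥(WX ⊔ WY) :=
    Nat.le_of_mul_le_mul_left (h1.trans (Nat.mul_le_mul_right _ (h _ (sup_le hXA hYA)))) hMpos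
  have h3 : Nat.card ↥(X ⊓ Y) * Nat.card ↥(WX ⊔ WY) ≤ meas φ (X ⊓ Y) :=
    Nat.mul_le_mul_left _ (AddSubgroup.card_le_of_le hle)
  have h4 : meas φ (X ⊓ Y) ≤ M := h _ (inf_le_left.trans hXA)
  refine ⟨le_antisymm h4 (h2.trans h3), (AddSubgroup.eq_of_le_of_card_ge hle ?_).symm⟩
  exact Nat.le_of_mul_le_mul_left (h4.trans h2) Nat.card_pos

/-- The span of `[v, A]` for `v` in a set. -/
def commSpan (A : Subgroup G) (s : Set V) : AddSubgroup V :=
  AddSubgroup.closure {w | ∃ v ∈ s, ∃ a ∈ A, φ a v - v = w}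

theorem IsBest.single [Finite G] [Finite V] {A : Subgroup G} (h : IsBest φ A)
    (hab : ∀ a ∈ A, ∀ b ∈ A, Commute a b) (v : V) :
    meas φ (A ⊓ pstab φ (commSpan φ A {v})) = meas φ A ∧
      fixSet φ ((A ⊓ pstab φ (commSpan φ A {v}) : Subgroup G) : Set G) =
        commSpan φ A {v} ⊔ fixSet φ (A : Set G) := by
  set B := A ⊓ pstab φ (commSpan φ A {v}) with hB
  set Cv := fixSet φ (A : Set G) with hCv
  set W := commSpan φ A {v} ⊔ Cv with hW
  have hWle : W ≤ fixSet φ (B : Set G) :=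
    sup_le (fun w hw b hb => (mem_pstab φ).1 (Subgroup.mem_inf.1 hb).2 w hw)
      (fixSet_anti φ fun _ h => h.1)
  have hmem : ∀ a : A, φ a v - v ∈ W := fun a =>
    AddSubgroup.mem_sup_left (AddSubgroup.subset_closure ⟨v, rfl, a, a.2, rfl⟩)
  have hswap : ∀ a ∈ A, ∀ b ∈ A, φ a (φ b v) = φ b (φ a v) := fun a ha b hb => by
    rw [← end_mul, ← map_mul, (hab a ha b hb).eq, map_mul]; rfl
  have hidx : B.relIndex A ≤ Cv.relIndex W := by
    refine Nat.card_le_card_of_injective
      (fun q : A ⧸ B.subgroupOf A => (QuotientAddGroup.mk (⟨_, hmem q.out⟩ : W) : W ⧸ Cv.addSubgroupOf W)) ?_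
    intro q r hqr
    rw [← q.out_eq', ← r.out_eq', QuotientGroup.eq, Subgroup.mem_subgroupOf]
    replace hqr := AddSubgroup.mem_addSubgroupOf.1 (QuotientAddGroup.eq.1 hqr)
    push_cast at hqr ⊢
    generalize (q.out : A) = a at hqr ⊢
    generalize (r.out : A) = b at hqr ⊢
    refine Subgroup.mem_inf.2 ⟨mul_mem (inv_mem a.2) b.2, (mem_pstab φ).2 fun w hw => ?_⟩
    refine (mem_fix1 φ).1 ((AddSubgroup.closure_le _).2 ?_ hw)
    rintro _ ⟨u, hu, c, hc, rfl⟩
    rw [Set.mem_singleton_iff.1 hu]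
    refine (mem_fix1 φ).2 ?_
    have h1 := hqr c hc
    simp only [map_add, map_neg, map_sub, hswap c hc a a.2, hswap c hc b b.2] at h1
    have h2 : φ (b : G) (φ c v - v) = φ (a : G) (φ c v - v) := by
      rw [map_sub, map_sub]
      have h3 := h1
      rw [← sub_eq_zero] at h3 ⊢
      rw [← h3]; abel
    rw [map_mul, end_mul, h2, act_inv_cancel]
  have e1 : Nat.card B * B.relIndex A = Nat.card A := by
    rw [← Subgroup.relIndex_bot_left, ← Subgroup.relIndex_bot_left]
    exact Subgroup.relIndex_mul_relIndex _ _ _ bot_le inf_le_left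
  have e2 : Nat.card Cv * Cv.relIndex W = Nat.card W := by
    rw [← AddSubgroup.relIndex_bot_left, ← AddSubgroup.relIndex_bot_left]
    exact AddSubgroup.relIndex_mul_relIndex _ _ _ bot_le le_sup_right
  have hcard : meas φ A ≤ Nat.card B * Nat.card W := by
    calc meas φ A = Nat.card B * B.relIndex A * Nat.card Cv := by rw [e1]; rfl
      _ ≤ Nat.card B * Cv.relIndex W * Nat.card Cv :=
          Nat.mul_le_mul_right _ (Nat.mul_le_mul_left _ hidx)
      _ = Nat.card B * Nat.card W := by rw [← e2]; ring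
  have hle : Nat.card B * Nat.card W ≤ meas φ B :=
    Nat.mul_le_mul_left _ (AddSubgroup.card_le_of_le hWle)
  refine ⟨le_antisymm (h B inf_le_left) (hcard.trans hle), (AddSubgroup.eq_of_le_of_card_ge hWle ?_).symm⟩
  exact Nat.le_of_mul_le_mul_left ((h B inf_le_left).trans hcard) Nat.card_pos

/-- The subgroup centralising `[V, A]`. -/
def quadPart (A : Subgroup G) : Subgroup G := A ⊓ pstab φ (commSpan φ A Set.univ)

theorem IsBest.replacement [Finite G] [Finite V] {A : Subgroup G} (h : IsBest φ A)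
    (hab : ∀ a ∈ A, ∀ b ∈ A, Commute a b) :
    meas φ (quadPart φ A) = meas φ A ∧
      fixSet φ (quadPart φ A : Set G) = commSpan φ A Set.univ ⊔ fixSet φ (A : Set G) := by
  classical
  have := Fintype.ofFinite V
  suffices ∀ s : Finset V, meas φ (A ⊓ pstab φ (commSpan φ A s)) = meas φ A ∧
      fixSet φ ((A ⊓ pstab φ (commSpan φ A s) : Subgroup G) : Set G) =
        commSpan φ A s ⊔ fixSet φ (A : Set G) by
    have e := this Finset.univ
    rwa [Finset.coe_univ] at e
  intro s
  induction s using Finset.induction_on with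
  | empty =>
    have h0 : commSpan φ A ((∅ : Finset V) : Set V) = ⊥ := by
      rw [commSpan, Finset.coe_empty]; simp
    have h1 : A ⊓ pstab φ ((⊥ : AddSubgroup V) : Set V) = A := inf_eq_left.2 fun a _ w hw => by
      rw [AddSubgroup.mem_bot.1 hw, map_zero]
    rw [h0, h1, bot_sup_eq]
    exact ⟨rfl, rfl⟩
  | insert v s _ ih =>
    obtain ⟨m1, w1⟩ := h.single φ hab v
    obtain ⟨m2, w2⟩ := ih
    have hspan : commSpan φ A ((insert v s : Finset V) : Set V) = commSpan φ A {v} ⊔ commSpan φ A s := by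
      rw [commSpan, commSpan, commSpan, ← AddSubgroup.closure_union]
      congr 1; ext w; simp
    have he : A ⊓ pstab φ ((commSpan φ A ((insert v s : Finset V) : Set V) : AddSubgroup V) : Set V) =
        (A ⊓ pstab φ (commSpan φ A {v})) ⊓ (A ⊓ pstab φ (commSpan φ A s)) := by
      apply le_antisymm
      · intro g hg
        rw [hspan] at hg
        exact ⟨⟨hg.1, fun w hw => hg.2 w (AddSubgroup.mem_sup_left hw)⟩,
          ⟨hg.1, fun w hw => hg.2 w (AddSubgroup.mem_sup_right hw)⟩⟩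
      · intro g hg
        refine ⟨hg.1.1, fun w hw => ?_⟩
        rw [hspan] at hw
        obtain ⟨x, hx, y, hy, rfl⟩ := AddSubgroup.mem_sup.1 hw
        rw [map_add, hg.1.2 x hx, hg.2.2 y hy]
    obtain ⟨m3, w3⟩ := h.inf φ inf_le_left inf_le_left m1 m2
    rw [he]
    refine ⟨m3, ?_⟩
    rw [w3, w1, w2, hspan, sup_sup_sup_comm, sup_idem]

/-- The replacement is nontrivial for a nontrivial action. -/
theorem IsBest.quadPart_ne_bot [Finite G] [Finite V] {p : ℕ} [Fact p.Prime] (hV : ∀ v : V, p • v = 0)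
    {A : Subgroup G} (h : IsBest φ A) (hab : ∀ a ∈ A, ∀ b ∈ A, Commute a b)
    (hpow : ∀ a ∈ A, a ^ p = 1) (hne : ∃ a ∈ A, φ a ≠ 1) : quadPart φ A ≠ ⊥ := by
  classical
  intro hb
  obtain ⟨-, hW⟩ := h.replacement φ hab
  have htop : commSpan φ A Set.univ ⊔ fixSet φ (A : Set G) = ⊤ := by
    rw [← hW, hb, eq_top_iff]
    intro v _ s hs
    rw [Subgroup.mem_bot.1 hs, map_one]; rfl
  have := Fintype.ofFinite G
  set J := commSpan φ A Set.univ with hJ
  let s : Finset (AddMonoid.End V) := (Finset.univ.filter fun g : G => g ∈ A).image fun g => φ g - 1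
  have hs : ∀ f ∈ s, ∃ a ∈ A, φ a - 1 = f := fun f hf => by
    obtain ⟨a, ha, rfl⟩ := Finset.mem_image.1 hf
    exact ⟨a, (Finset.mem_filter.1 ha).2, rfl⟩
  have hmem : ∀ a ∈ A, ∀ v, φ a v - v ∈ J := fun a ha v =>
    AddSubgroup.subset_closure ⟨v, trivial, a, ha, rfl⟩
  have hJ0 : J = ⊥ := by
    refine eq_bot_of_le_iSup_map (k := p) s J ?_ ?_ ?_ ?_
    · intro f hf
      obtain ⟨a, ha, rfl⟩ := hs f hf
      rw [sub_one_pow_prime hV, ← map_pow, hpow a ha, map_one, sub_self]
    · intro f hf g hg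
      obtain ⟨a, ha, rfl⟩ := hs f hf
      obtain ⟨b, hb, rfl⟩ := hs g hg
      exact ((Commute.map (hab a ha b hb) φ).sub_left (Commute.one_left _)).sub_right
        ((Commute.one_right _).sub_left (Commute.one_left _))
    · intro f hf
      obtain ⟨a, ha, rfl⟩ := hs f hf
      rintro _ ⟨m, -, rfl⟩
      exact hmem a ha m
    · refine (AddSubgroup.closure_le _).2 ?_
      rintro _ ⟨v, -, a, ha, rfl⟩
      obtain ⟨x, hx, y, hy, rfl⟩ := AddSubgroup.mem_sup.1 (htop.ge (AddSubgroup.mem_top v))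
      refine (le_iSup₂_of_le (f := fun f _ => J.map (f : V →+ V)) ((φ a - 1 : AddMonoid.End V))
        (Finset.mem_image.2 ⟨a, Finset.mem_filter.2 ⟨Finset.mem_univ _, ha⟩, rfl⟩) le_rfl) ⟨x, hx, ?_⟩
      show φ a x - x = φ a (x + y) - (x + y)
      rw [map_add, hy a ha]; abel
  obtain ⟨a, ha, hne⟩ := hne
  refine hne (AddMonoidHom.ext fun v => ?_)
  have := hmem a ha v
  rw [hJ0, AddSubgroup.mem_bot, sub_eq_zero] at this
  exact this

end Measure

end Cfsg.Agent.PGV
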