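import Cfsg.Agent.Lib.Lead.PGV.TwoConf

/-!
# The final configuration is impossible
-/

set_option autoImplicit false
open scoped commutatorElement Pointwise

namespace Cfsg.Agent.PGV.Conf

universe u v

variable {G : Type u} [Group G] [Finite G] {M : Type v} [AddCommGroup M] [Finite M]
  {ψ : G →* AddMonoid.End M} {K N : Subgroup G} {a : G}

/-- The module has more than sixteen elements. -/
theorem sixteen_lt (C : Conf ψ K N a) : 16 < Nat.card M := by
  classical
  obtain ⟨r, hr, hr2, hr3, g, hgK, hgc, hgr, e, hge⟩ := C.qs.exists_prime_element Nat.prime_three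
  have hr5 : 5 ≤ r := by
    have := hr.two_le
    have h4 : r ≠ 4 := fun h => by rw [h] at hr; norm_num at hr
    omega
  haveI : Finite (AddMonoid.End M) :=
    Finite.of_injective (fun f : AddMonoid.End M => (f : M → M)) DFunLike.coe_injective
  set g' := a * g * a⁻¹ with hg'
  have hgg : Commute g' g := C.comm g hgK g hgK
  set S : Subgroup G := Subgroup.closure {g', g} with hS
  have hSc : IsMulCommutative S := Subgroup.isMulCommutative_closure (by
    rintro x (rfl | rfl) y (rfl | rfl)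
    exacts [rfl, hgg.eq, hgg.eq.symm, rfl])
  set φ' : G →* (AddMonoid.End M)ˣ := ψ.toHomUnits with hφ'
  set R := S.map φ' with hR
  have hRc : ∀ x y : R, x * y = y * x := by
    rintro ⟨_, x, hx, rfl⟩ ⟨_, y, hy, rfl⟩
    apply Subtype.ext
    show φ' x * φ' y = φ' y * φ' x
    rw [← map_mul, ← map_mul, show x * y = y * x from congrArg Subtype.val (hSc.1.1 ⟨x, hx⟩ ⟨y, hy⟩)]
  letI : CommGroup R := { (inferInstance : Group R) with mul_comm := hRc }
  have hg1 : g ^ r ^ e = 1 := by rw [← hge, pow_orderOf_eq_one]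
  have hP : IsPGroup r R := by
    rintro ⟨_, x, hx, rfl⟩
    refine ⟨e, Subtype.ext ?_⟩
    show φ' x ^ r ^ e = 1
    have h : x ^ r ^ e = 1 := by
      induction hx using Subgroup.closure_induction with
      | one => rw [one_pow]
      | mem x hx =>
        rcases hx with rfl | rfl
        · rw [hg', conj_pow, hg1, mul_one, mul_inv_cancel]
        · exact hg1
      | mul x y hx hy ihx ihy =>
        rw [(show Commute x y from congrArg Subtype.val (hSc.1.1 ⟨x, hx⟩ ⟨y, hy⟩)).mul_pow, ihx, ihy,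
          one_mul]
      | inv x _ ih => rw [inv_pow, ih, inv_one]
    rw [← map_pow, h, map_one]
  haveI := Fact.mk hr
  have hcop : (Nat.card R).Coprime 2 := by
    obtain ⟨j, hj⟩ := IsPGroup.iff_card.1 hP
    rw [hj]
    exact Nat.Coprime.pow_left _ ((Nat.coprime_primes hr Nat.prime_two).2 hr2)
  have hup := card_le_of_abelian_coprime _ rfl C.two hcop ((Units.coeHom _).comp R.subtype)
    (fun x y h => Subtype.ext (Units.ext h))
  have hlow : r * r ≤ Nat.card R := by
    have hpow : ∀ i j : ℕ, φ' (g' ^ i * g ^ j) ∈ R := fun i j => ⟨_, mul_mem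
      (pow_mem (Subgroup.subset_closure (by simp)) i) (pow_mem (Subgroup.subset_closure (by simp)) j), rfl⟩
    have := Nat.card_le_card_of_injective
      (fun x : Fin r × Fin r => (⟨φ' (g' ^ (x.1 : ℕ) * g ^ (x.2 : ℕ)), hpow _ _⟩ : R)) ?_
    · rwa [Nat.card_prod, Nat.card_fin] at this
    rintro ⟨i, j⟩ ⟨i', j'⟩ h
    have h' : φ' (g' ^ (i : ℕ) * g ^ (j : ℕ)) = φ' (g' ^ (i' : ℕ) * g ^ (j' : ℕ)) := congrArg Subtype.val h
    -- powers of `g` whose images lie in the image of the conjugate are central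
    have key : ∀ d b : ℤ, φ' (g' ^ b) = φ' (g ^ d) → (r : ℤ) ∣ d := by
      intro d b hbd
      have hdc : g ^ d ∈ Subgroup.centralizer (K : Set G) := by
        refine C.qs.central_of_image_comm ψ C.ne (zpow_mem hgK d) fun k hk => ?_
        have h1 : Commute (g' ^ b) k := (C.comm g hgK k hk).zpow_left b
        have h2 := h1.map φ'
        rw [hbd] at h2
        exact congrArg Units.val h2.eq
      by_contra hdr
      obtain ⟨u, w, huw⟩ : IsCoprime (r : ℤ) d :=
        (Prime.coprime_iff_not_dvd (Nat.prime_iff_prime_int.1 hr)).2 hdr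
      refine hgc ?_
      have e : g = (g ^ r) ^ u * (g ^ d) ^ w := by
        rw [← zpow_natCast, ← zpow_mul, ← zpow_mul, ← zpow_add, mul_comm (r : ℤ), mul_comm d, huw, zpow_one]
      rw [e]
      exact mul_mem (zpow_mem hgr u) (zpow_mem hdc w)
    have h2 : φ' (g' ^ ((i : ℤ) - i')) = φ' (g ^ ((j' : ℤ) - j)) := by
      rw [zpow_sub, zpow_sub, zpow_natCast, zpow_natCast, zpow_natCast, zpow_natCast, map_mul, map_mul,
        map_inv, map_inv]
      rw [map_mul, map_mul] at h'
      have hc : Commute (φ' (g' ^ (i' : ℕ))) (φ' (g ^ (j' : ℕ)) * (φ' (g ^ (j : ℕ)))⁻¹) :=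
        ((hgg.pow_pow _ _).map φ').mul_right ((hgg.pow_pow _ _).map φ').inv_right
      calc φ' (g' ^ (i : ℕ)) * (φ' (g' ^ (i' : ℕ)))⁻¹
          = (φ' (g' ^ (i : ℕ)) * φ' (g ^ (j : ℕ))) * (φ' (g ^ (j : ℕ)))⁻¹ * (φ' (g' ^ (i' : ℕ)))⁻¹ := by group
        _ = φ' (g' ^ (i' : ℕ)) * (φ' (g ^ (j' : ℕ)) * (φ' (g ^ (j : ℕ)))⁻¹) * (φ' (g' ^ (i' : ℕ)))⁻¹ := by
            rw [h']; group
        _ = _ := by rw [hc.eq]; group
    have hjj : (r : ℤ) ∣ (j' : ℤ) - j := key _ _ h2
    have hj0 : (j' : ℕ) = j := by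
      have h0 := Int.eq_zero_of_abs_lt_dvd hjj (by
        have := j.isLt; have := j'.isLt; rw [abs_lt]; omega)
      omega
    rw [hj0, map_mul, map_mul] at h'
    have h3 := mul_right_cancel h'
    -- and conjugate back by `a`
    have h4 : φ' (g ^ (i : ℕ)) = φ' (g ^ (i' : ℕ)) := by
      rw [hg', conj_pow, conj_pow] at h3
      simpa [map_mul] using h3
    have hii : (r : ℤ) ∣ (i : ℤ) - i' := key _ 0 (by
      rw [zpow_zero, map_one, zpow_sub, zpow_natCast, zpow_natCast, map_mul, map_inv, h4, mul_inv_cancel])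
    have hi0 : (i : ℕ) = i' := by
      have h0 := Int.eq_zero_of_abs_lt_dvd hii (by
        have := i.isLt; have := i'.isLt; rw [abs_lt]; omega)
      omega
    exact Prod.ext (Fin.ext hi0) (Fin.ext hj0.symm)
  have := hlow.trans hup
  nlinarith

/-- Commuting with `N` modulo a trivially acting element preserves the common fixed points. -/
theorem fix_of_commute {z n : G} (hc : Commute (ψ z) (ψ n)) {v : M} (hv : v ∈ fix1 ψ n) :
    ψ z v ∈ fix1 ψ n := by
  rw [mem_fix1] at hv ⊢
  rw [← end_mul, ← hc.eq, end_mul, hv]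

theorem add_mem_of_relIndex_two {C X : AddSubgroup M} (hle : C ≤ X) (h : C.relIndex X = 2) {x y : M}
    (hx : x ∈ X) (hy : y ∈ X) (hxC : x ∉ C) (hyC : y ∉ C) : x + y ∈ C := by
  have := (AddSubgroup.add_mem_iff_of_index_two (H := C.addSubgroupOf X) h (a := ⟨x, hx⟩) (b := ⟨y, hy⟩)).2
    (iff_of_false (fun h' => hxC h') (fun h' => hyC h'))
  exact this

/-- If all `2`-elements of `K` are central, `N` has order at most two. -/
theorem absurd_of_odd (C : Conf ψ K N a)
    (hz : ∀ x ∈ K, x ∉ Subgroup.centralizer (K : Set G) → ∀ e, orderOf x ≠ 2 ^ e)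
    {n₀ : G} (hall : ∀ n ∈ N, n ≠ 1 → fix1 ψ n = fix1 ψ n₀) (hn₀ : n₀ ∈ N) (hn₀1 : n₀ ≠ 1)
    (hrange : ∀ n ∈ N, ∀ v, ψ n v - v ∈ fix1 ψ n₀)
    (hfixX : ∀ n ∈ N, ∀ v ∈ fix1 ψ n₀, ψ n v = v) (hN : 2 < Nat.card N) : False := by
  classical
  set X := fix1 ψ n₀ with hX
  obtain ⟨m₀, hm, hm1, hm0⟩ : ∃ m ∈ N, m ≠ 1 ∧ m ≠ n₀ := by
    by_contra hcon
    push Not at hcon
    have : Nat.card N ≤ 2 := by
      refine le_trans (Nat.card_le_card_of_injective (fun n : N => decide ((n : G) = 1)) ?_)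
        (by rw [Nat.card_eq_fintype_card, Fintype.card_bool])
      intro x y hxy
      apply Subtype.ext
      have hiff := decide_eq_decide.1 hxy
      by_cases hx : (x : G) = 1
      · rw [hx, hiff.1 hx]
      · rw [hcon x x.2 hx, hcon y y.2 (fun hy => hx (hiff.2 hy))]
    omega
  set Z := Subgroup.center K with hZ
  have hcc : ∀ k : K, k ∈ Z ↔ (k : G) ∈ Subgroup.centralizer (K : Set G) := fun k => by
    rw [hZ, Subgroup.mem_center_iff, Subgroup.mem_centralizer_iff]
    exact ⟨fun h g hg => congrArg Subtype.val (h ⟨g, hg⟩), fun h g => Subtype.ext (h g g.2)⟩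
  have hodd : Odd (Nat.card (K ⧸ Z)) := by
    rw [← Nat.not_even_iff_odd, even_iff_two_dvd]
    intro hd
    haveI : Fact (Nat.Prime 2) := ⟨Nat.prime_two⟩
    obtain ⟨q, hq⟩ := exists_prime_orderOf_dvd_card' 2 hd
    obtain ⟨x, rfl⟩ := QuotientGroup.mk_surjective q
    set o := orderOf (x : G) with ho
    set m := o / 2 ^ o.factorization 2 with hm
    have hm' : m.Coprime 2 := ((Nat.coprime_ordCompl Nat.prime_two (orderOf_pos (x : G)).ne').symm)
    have hmd : m ∣ o := Nat.ordCompl_dvd _ _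
    refine hz ((x : G) ^ m) (pow_mem x.2 m) (fun hc => ?_) (o.factorization 2) ?_
    · have h0 : ((x ^ m : K) : K ⧸ Z) = 1 := (QuotientGroup.eq_one_iff _).2 ((hcc _).2 (by
        push_cast; exact hc))
      rw [QuotientGroup.mk_pow] at h0
      have := Nat.dvd_gcd (orderOf_dvd_of_pow_eq_one h0) hq.dvd
      rw [hq, hm'.gcd_eq_one] at this
      omega
    · rw [orderOf_pow_of_dvd (fun hm0 => (orderOf_pos (x : G)).ne' (Nat.eq_zero_of_zero_dvd (hm0 ▸ hmd))) hmd,
        Nat.div_div_self (Nat.ordProj_dvd _ _) (orderOf_pos _).ne']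
  -- the automorphisms induced on `K ⧸ Z`
  set ν := K.normalizerMonoidHom with hν
  have hνeq : ∀ (g : G) (hg : g ∈ Subgroup.normalizer (K : Set G)) (x : K),
      ((ν ⟨g, hg⟩ x : K) : G) = g * x * g⁻¹ := fun g hg x => rfl
  have hchar : ∀ e : MulAut K, Z.map (e : K ≃* K).toMonoidHom = Z := fun e =>
    (Subgroup.characteristic_iff_map_eq.1 inferInstance) e
  let bar : MulAut K →* MulAut (K ⧸ Z) :=
    { toFun := fun e => QuotientGroup.congr Z Z e (hchar e)
      map_one' := MulEquiv.ext fun q => by obtain ⟨x, rfl⟩ := QuotientGroup.mk_surjective q; rfl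
      map_mul' := fun e f => MulEquiv.ext fun q => by
        obtain ⟨x, rfl⟩ := QuotientGroup.mk_surjective q; rfl }
  let β : MulAut (K ⧸ Z) := bar (ν ⟨n₀, C.nnorm hn₀⟩)
  let δ : MulAut (K ⧸ Z) := bar (ν ⟨m₀, C.nnorm hm⟩)
  have hββ : β * β = 1 := by
    rw [← map_mul, ← map_mul, show (⟨n₀, C.nnorm hn₀⟩ : Subgroup.normalizer (K : Set G)) * ⟨n₀, C.nnorm hn₀⟩ = 1
      from Subtype.ext (C.nsq n₀ hn₀), map_one, map_one]
  have hδδ : δ * δ = 1 := by
    rw [← map_mul, ← map_mul, show (⟨m₀, C.nnorm hm⟩ : Subgroup.normalizer (K : Set G)) * ⟨m₀, C.nnorm hm⟩ = 1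
      from Subtype.ext (C.nsq m₀ hm), map_one, map_one]
  have hβδ : Commute β δ :=
    ((show Commute (⟨n₀, C.nnorm hn₀⟩ : Subgroup.normalizer (K : Set G)) ⟨m₀, C.nnorm hm⟩ from
      Subtype.ext (C.ncomm n₀ hn₀ m₀ hm).eq).map ν).map bar
  -- the stabiliser of `X`
  let St : Subgroup G :=
    { carrier := {g | ∀ v, v ∈ X ↔ ψ g v ∈ X}
      one_mem' := fun v => by rw [map_one]; rfl
      mul_mem' := fun {g h} hg hh v => by rw [map_mul, end_mul]; exact (hh v).trans (hg _)
      inv_mem' := fun {g} hg v => by rw [hg (ψ g⁻¹ v), act_cancel_inv] }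
  have hpres : ∀ g : G, ∀ n ∈ N, n ≠ 1 → Commute (ψ g) (ψ n) → g ∈ St := fun g n hn hn1 hc v => by
    rw [← hall n hn hn1]
    refine ⟨fix_of_commute hc, fun h => ?_⟩
    rw [mem_fix1] at h ⊢
    rw [← end_mul, ← hc.eq, end_mul] at h
    exact act_injective ψ g h
  -- lifting fixed cosets
  have hlift : ∀ k : K, ∀ n ∈ N, n ≠ 1 → n * (k : G) * n⁻¹ * (k : G)⁻¹ ∈ Subgroup.centralizer (K : Set G) →
      (k : K ⧸ Z) ∈ ((St.subgroupOf K).map (QuotientGroup.mk' Z)) := by
    intro k n hn hn1 hc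
    set c := n * (k : G) * n⁻¹ * (k : G)⁻¹ with hcdef
    have hcK : c ∈ K :=
      mul_mem ((Subgroup.mem_normalizer_iff.1 (C.nnorm hn) _).1 k.2) (inv_mem k.2)
    have hck : ∀ y ∈ K, Commute c y := fun y hy => (Subgroup.mem_centralizer_iff.1 hc y hy).symm
    have hnk : n * (k : G) * n⁻¹ = c * k := by rw [hcdef]; group
    have hnc : n * c * n⁻¹ = c⁻¹ := by
      have h2 : n * (n * (k : G) * n⁻¹) * n⁻¹ = k := by
        calc n * (n * (k : G) * n⁻¹) * n⁻¹ = (n * n) * k * (n * n)⁻¹ := by group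
          _ = k := by rw [C.nsq n hn, one_mul, inv_one, mul_one]
      rw [hnk] at h2
      calc n * c * n⁻¹ = n * (c * k) * n⁻¹ * (n * (k : G) * n⁻¹)⁻¹ := by group
        _ = k * (c * k)⁻¹ := by rw [h2, hnk]
        _ = c⁻¹ := by group
    set o := orderOf c / 2 ^ (orderOf c).factorization 2 with ho
    have hoodd : Odd o := by
      rw [← Nat.not_even_iff_odd, even_iff_two_dvd]
      exact Nat.not_dvd_ordCompl Nat.prime_two (orderOf_pos c).ne'
    obtain ⟨j, hj⟩ := hoodd
    have hco : ψ (c ^ o) = 1 := C.ztriv _ (pow_mem hcK o) (pow_mem hc o)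
      ⟨(orderOf c).factorization 2, by
        rw [orderOf_pow_of_dvd (by omega) (Nat.ordCompl_dvd _ _),
          Nat.div_div_self (Nat.ordProj_dvd _ _) (orderOf_pos c).ne']⟩
    refine ⟨k * ⟨c ^ (j + 1), pow_mem hcK _⟩, ?_, ?_⟩
    · show (k : G) * c ^ (j + 1) ∈ St
      refine hpres _ n hn hn1 ?_
      have h1 : n * ((k : G) * c ^ (j + 1)) * n⁻¹ = (k : G) * c ^ (j + 1) * (c ^ o)⁻¹ := by
        have hcz : Commute (c : G) (k : G) := hck _ k.2
        calc n * ((k : G) * c ^ (j + 1)) * n⁻¹ = (n * (k : G) * n⁻¹) * (n * c ^ (j + 1) * n⁻¹) := by group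
          _ = c * k * (c⁻¹) ^ (j + 1) := by rw [hnk, ← conj_pow, hnc]
          _ = k * (c * (c ^ (j + 1))⁻¹) := by rw [hcz.eq, inv_pow, mul_assoc]
          _ = k * (c ^ (j + 1) * (c ^ o)⁻¹) := by
              congr 1
              rw [← zpow_natCast, ← zpow_natCast, ← zpow_neg, ← zpow_neg, ← zpow_one_add, ← zpow_add]
              congr 1
              omega
          _ = _ := by group
      show ψ _ * ψ n = ψ n * ψ _
      have h2 : ψ (n * ((k : G) * c ^ (j + 1)) * n⁻¹) = ψ ((k : G) * c ^ (j + 1)) := by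
        have hinv : ψ (c ^ o)⁻¹ = 1 := by
          calc ψ (c ^ o)⁻¹ = ψ (c ^ o) * ψ (c ^ o)⁻¹ := by rw [hco, one_mul]
            _ = 1 := by rw [← map_mul, mul_inv_cancel, map_one]
        rw [h1, map_mul, hinv, mul_one]
      conv_lhs => rw [← h2]
      rw [← map_mul, ← map_mul]
      congr 1
      group
    · show QuotientGroup.mk' Z (k * _) = QuotientGroup.mk' Z k
      rw [map_mul]
      have : (⟨c ^ (j + 1), pow_mem hcK _⟩ : K) ∈ Z := (hcc _).2 (pow_mem hc _)
      rw [(QuotientGroup.eq_one_iff _).2 this |> fun h => (show QuotientGroup.mk' Z (⟨c ^ (j + 1), pow_mem hcK _⟩ : K) = 1 from h), mul_one]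
  have hcomm : ∀ (n : G) (hn : n ∈ N) (k : K), bar (ν ⟨n, C.nnorm hn⟩) (k : K ⧸ Z) = (k : K ⧸ Z) →
      n * (k : G) * n⁻¹ * (k : G)⁻¹ ∈ Subgroup.centralizer (K : Set G) := by
    intro n hn k h
    have h' : ((ν ⟨n, C.nnorm hn⟩ k : K) : K ⧸ Z) = (k : K ⧸ Z) := h
    have h2 := QuotientGroup.eq_iff_div_mem.1 h'
    have h3 := (hcc _).1 h2
    rwa [div_eq_mul_inv, Subgroup.coe_mul, Subgroup.coe_inv, hνeq] at h3
  have htop : ∀ q : K ⧸ Z, q ∈ (St.subgroupOf K).map (QuotientGroup.mk' Z) :=
    four_generation hodd β δ hββ hδδ hβδ _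
      (fun q h => by
        obtain ⟨k, rfl⟩ := QuotientGroup.mk_surjective q
        exact hlift k n₀ hn₀ hn₀1 (hcomm n₀ hn₀ k h))
      (fun q h => by
        obtain ⟨k, rfl⟩ := QuotientGroup.mk_surjective q
        exact hlift k m₀ hm hm1 (hcomm m₀ hm k h))
      (fun q h => by
        obtain ⟨k, rfl⟩ := QuotientGroup.mk_surjective q
        refine hlift k (n₀ * m₀) (mul_mem hn₀ hm)
          (fun h1 => hm0 (mul_left_cancel (h1.trans (C.nsq n₀ hn₀).symm))) (hcomm _ (mul_mem hn₀ hm) k ?_)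
        rw [show (⟨n₀ * m₀, C.nnorm (mul_mem hn₀ hm)⟩ : Subgroup.normalizer (K : Set G)) =
          ⟨n₀, C.nnorm hn₀⟩ * ⟨m₀, C.nnorm hm⟩ from rfl, map_mul, map_mul, MulAut.mul_apply]
        exact h)
  -- hence `K` preserves `X`
  have hKSt : ∀ k ∈ K, k ∈ St := by
    have hle : ⁅(⊤ : Subgroup K), (⊤ : Subgroup K)⁆ ≤ St.subgroupOf K := Subgroup.commutator_le.2 fun x _ y _ => by
      obtain ⟨x', hx', hxx⟩ := htop (x : K ⧸ Z)
      obtain ⟨y', hy', hyy⟩ := htop (y : K ⧸ Z)
      have hxz : x'⁻¹ * x ∈ Z := QuotientGroup.eq.1 hxx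
      have hyz : y'⁻¹ * y ∈ Z := QuotientGroup.eq.1 hyy
      have e : ⁅x, y⁆ = ⁅x', y'⁆ := by
        have hca : ∀ z ∈ Z, ∀ w : K, Commute z w := fun z hz w => (Subgroup.mem_center_iff.1 hz w).symm
        have h1 := commutator_central_mul (g := x') (l := y') (hca _ hxz x') (hca _ hxz y') (hca _ hyz x')
          (hca _ hyz y') (hca _ hxz _)
        rwa [(hca _ hxz x').eq, (hca _ hyz y').eq, mul_inv_cancel_left, mul_inv_cancel_left] at h1
      rw [e, commutatorElement_def]
      exact mul_mem (mul_mem (mul_mem hx' hy') (inv_mem hx')) (inv_mem hy')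
    have hK : ⁅(⊤ : Subgroup K), (⊤ : Subgroup K)⁆ = ⊤ := by
      apply Subgroup.map_injective K.subtype_injective
      rw [Subgroup.map_commutator, ← MonoidHom.range_eq_map, Subgroup.range_subtype, C.qs.perfect]
    exact fun k hk => hle (hK.ge (Subgroup.mem_top (⟨k, hk⟩ : K)))
  -- so the commutators of `n₀` with `K` are involutions modulo the centre
  refine C.nfaith n₀ hn₀ hn₀1 (C.qs.central_of_comm (C.nnorm hn₀) fun k hk => ?_)
  by_contra hd
  set d := ⁅n₀, k⁆ with hddef
  have hdK : d ∈ K := by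
    rw [hddef, commutatorElement_def]
    exact mul_mem ((Subgroup.mem_normalizer_iff.1 (C.nnorm hn₀) k).1 hk) (inv_mem hk)
  have hrange' : ∀ v, ψ d v - v ∈ X := by
    intro v
    rw [hddef, commutatorElement_def]
    set w := ψ k (ψ n₀⁻¹ (ψ k⁻¹ v)) with hw
    have hw' : w - v ∈ X := by
      have h := (hKSt k hk _).1 (hrange n₀⁻¹ (inv_mem hn₀) (ψ k⁻¹ v))
      rw [map_sub, act_cancel_inv] at h
      exact h
    rw [map_mul, map_mul, map_mul, end_mul, end_mul, end_mul, ← hw, ← sub_add_sub_cancel _ w v]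
    exact add_mem (hrange n₀ hn₀ w) hw'
  have hfix' : ∀ v ∈ X, ψ d v = v := by
    intro v hv
    have h1 : ψ k⁻¹ v ∈ X := (hKSt _ (inv_mem hk) v).1 hv
    rw [hddef, commutatorElement_def, map_mul, map_mul, map_mul, end_mul, end_mul, end_mul,
      hfixX _ (inv_mem hn₀) _ h1, act_cancel_inv, hfixX n₀ hn₀ v hv]
  have hdd : ψ (d * d) = 1 := AddMonoidHom.ext fun v => by
    show ψ (d * d) v = v
    have h := hfix' _ (hrange' v)
    rw [map_sub, sub_eq_iff_eq_add] at h
    rw [map_mul, end_mul, h]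
    have h0 := C.two (ψ d v - v)
    rw [two_nsmul] at h0
    rw [show ψ d v - v + ψ d v = (ψ d v - v + (ψ d v - v)) + v by abel, h0, zero_add]
  have hd2 : d * d ∈ Subgroup.centralizer (K : Set G) :=
    C.qs.central_of_image_comm ψ C.ne (mul_mem hdK hdK) fun y _ => by rw [hdd]; exact Commute.one_left _
  have hq : ((⟨d, hdK⟩ : K) : K ⧸ Z) ^ 2 = 1 := by
    rw [← QuotientGroup.mk_pow, QuotientGroup.eq_one_iff, hcc]
    push_cast
    rwa [pow_two]
  have hne : ((⟨d, hdK⟩ : K) : K ⧸ Z) ≠ 1 := fun h => hd ((hcc _).1 ((QuotientGroup.eq_one_iff _).1 h))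
  have h2 := orderOf_eq_prime hq hne
  exact (Nat.not_even_iff_odd.2 hodd) (even_iff_two_dvd.2 (h2 ▸ orderOf_dvd_natCard _))

/-- The configuration in which `N` alone or `N` with `a` gives an offender does not occur. -/
theorem absurd_of_offender (C : Conf ψ K N a) (hN : N ≠ ⊥)
    (hoff : Nat.card M ≤ Nat.card N * Nat.card (fixSet ψ (N : Set G)) ∨
      ((∀ n ∈ N, (ψ n - 1) * (ψ a - 1) = 0) ∧
        Nat.card M ≤ 2 * Nat.card N * Nat.card (fixSet ψ (insert a (N : Set G))))) : False := by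
  classical
  have hM16 := C.sixteen_lt
  haveI := C.nontrivial
  have hψn : ∀ n ∈ N, ψ n * ψ n = 1 := fun n hn => by rw [← map_mul, C.nsq n hn, map_one]
  obtain ⟨n₀, hn₀, hn₀1⟩ := N.bot_or_exists_ne_one.resolve_left hN
  obtain ⟨hX2, hXs⟩ := C.half (C.nnorm hn₀) (hψn n₀ hn₀) (C.nfaith n₀ hn₀ hn₀1)
  set X := fix1 ψ n₀ with hX
  have hall : ∀ n ∈ N, n ≠ 1 → fix1 ψ n = X := fun n hn hn1 => by
    obtain ⟨h2, hs⟩ := C.half (C.nnorm hn) (hψn n hn) (C.nfaith n hn hn1)
    exact C.half_eq h2 hX2 hs (C.quad n₀ hn₀ n hn)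
  have hrange : ∀ n ∈ N, ∀ v, ψ n v - v ∈ X := fun n hn v =>
    (mem_fix1 ψ).2 (sub_eq_zero.1 (DFunLike.congr_fun (C.quad n₀ hn₀ n hn) v))
  have hfixX : ∀ n ∈ N, ∀ v ∈ X, ψ n v = v := fun n hn v hv => by
    rcases eq_or_ne n 1 with rfl | h1
    · rw [map_one]; rfl
    · rw [← hall n hn h1] at hv; exact (mem_fix1 ψ).1 hv
  have hfixN : fixSet ψ (N : Set G) = X :=
    le_antisymm (fun v hv => (mem_fix1 ψ).2 (hv n₀ hn₀)) fun v hv n hn => hfixX n hn v hv
  have hXX : Nat.card M = Nat.card X * Nat.card X := by rw [← hX2, pow_two]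
  have hXpos : 0 < Nat.card X := Nat.card_pos
  have hXa : Nat.card (fixSet ψ (insert a (N : Set G))) ≤ Nat.card X :=
    AddSubgroup.card_le_of_le (hfixN ▸ fixSet_anti ψ (Set.subset_insert _ _))
  have hXN : Nat.card X ≤ 2 * Nat.card N := by
    rcases hoff with h | ⟨-, h⟩
    · rw [hfixN, hXX] at h
      have := Nat.le_of_mul_le_mul_right h hXpos
      omega
    · rw [hXX] at h
      exact Nat.le_of_mul_le_mul_right (h.trans (Nat.mul_le_mul_left _ hXa)) hXpos
  have hN4 : 3 ≤ Nat.card N := by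
    by_contra hlt
    have h4 : Nat.card X ≤ 4 := by omega
    have := Nat.mul_le_mul h4 h4
    omega
  by_cases hz : ∃ x ∈ K, x ∉ Subgroup.centralizer (K : Set G) ∧ ∃ e, orderOf x = 2 ^ e
  · obtain ⟨x, hxK, hxc, e, hxe⟩ := hz
    -- an involution of the image of a Sylow `2`-subgroup centralising `N`
    obtain ⟨z, hzK, hzc, hz2, hzN⟩ : ∃ z ∈ K, z ∉ Subgroup.centralizer (K : Set G) ∧
        ψ z * ψ z = 1 ∧ ∀ n ∈ N, Commute (ψ z) (ψ n) := by
      haveI : Fact (Nat.Prime 2) := ⟨Nat.prime_two⟩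
      set H : Subgroup G := N ⊔ K with hH
      have hHn : H ≤ Subgroup.normalizer (K : Set G) := sup_le C.nnorm Subgroup.le_normalizer
      have hN2 : IsPGroup 2 (N.subgroupOf H) := fun y => ⟨1, Subtype.ext (Subtype.ext (by
        show ((y : H) : G) ^ 2 ^ 1 = 1
        rw [pow_one, pow_two]; exact C.nsq _ y.2))⟩
      obtain ⟨Q, hNQ⟩ := hN2.exists_le_sylow
      have hx2 : IsPGroup 2 (Subgroup.zpowers (⟨x, Subgroup.mem_sup_right hxK⟩ : H)) :=
        IsPGroup.of_card (n := e) (by rw [Nat.card_zpowers, ← hxe, Subgroup.orderOf_mk])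
      obtain ⟨Q', hxQ'⟩ := hx2.exists_le_sylow
      obtain ⟨h, hh⟩ := MulAction.exists_smul_eq H Q' Q
      set x' : H := h * ⟨x, Subgroup.mem_sup_right hxK⟩ * h⁻¹ with hx'
      have hx'Q : x' ∈ (Q : Subgroup H) := by
        rw [← hh]
        exact ⟨_, hxQ' (Subgroup.mem_zpowers _), rfl⟩
      have hx'K : (x' : G) ∈ K := (Subgroup.mem_normalizer_iff.1 (hHn h.2) x).1 hxK
      have hx'c : (x' : G) ∉ Subgroup.centralizer (K : Set G) := fun hc => hxc (by
        refine Subgroup.mem_centralizer_iff.2 fun k hk => ?_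
        have := Subgroup.mem_centralizer_iff.1 hc _ ((Subgroup.mem_normalizer_iff.1 (hHn h.2) k).1 hk)
        rw [show (x' : G) = (h : G) * x * (h : G)⁻¹ from rfl] at this
        have h2 := congrArg (fun y => (h : G)⁻¹ * y * (h : G)) this
        simp only [mul_assoc, inv_mul_cancel_left, inv_mul_cancel, mul_one] at h2
        exact h2)
      haveI : Finite (AddMonoid.End M) :=
        Finite.of_injective (fun f : AddMonoid.End M => (f : M → M)) DFunLike.coe_injective
      set θ : Q →* (AddMonoid.End M)ˣ := ψ.toHomUnits.comp (H.subtype.comp (Q : Subgroup H).subtype) with hθ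
      set S : Subgroup Q := K.comap (H.subtype.comp (Q : Subgroup H).subtype) with hS
      haveI hSn : S.Normal := ⟨fun s hs q => (Subgroup.mem_normalizer_iff.1 (hHn (q : H).2) _).1 hs⟩
      let T : Subgroup θ.range := S.map θ.rangeRestrict
      haveI : T.Normal := hSn.map _ θ.rangeRestrict_surjective
      have hTne : T ≠ ⊥ := fun hT => by
        have h1 : θ.rangeRestrict ⟨x', hx'Q⟩ ∈ T := ⟨_, hx'K, rfl⟩
        rw [hT, Subgroup.mem_bot] at h1
        have h2 : ψ (x' : G) = 1 := congrArg (fun y : θ.range => ((y : (AddMonoid.End M)ˣ) : AddMonoid.End M)) h1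
        exact hx'c (C.qs.central_of_image_comm ψ C.ne hx'K fun k _ => by rw [h2]; exact Commute.one_left _)
      have hP : IsPGroup 2 θ.range := Q.isPGroup'.of_surjective θ.rangeRestrict θ.rangeRestrict_surjective
      have hTc := LocalEven.Large.normal_inf_center hP T hTne
      obtain ⟨t₁, ht₁, ht₁1⟩ := (T ⊓ Subgroup.center θ.range).bot_or_exists_ne_one.resolve_left hTc
      obtain ⟨m, hm⟩ := IsPGroup.iff_orderOf.1 hP t₁
      rcases m with _ | m
      · exact absurd (orderOf_eq_one_iff.1 (by simpa using hm)) ht₁1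
      set t := t₁ ^ 2 ^ m with htdef
      have htne : t ≠ 1 := fun h0 => by
        have := orderOf_dvd_of_pow_eq_one h0
        rw [hm] at this
        exact absurd ((Nat.pow_dvd_pow_iff_le_right one_lt_two).1 this) (by omega)
      have htt : t * t = 1 := by rw [htdef, ← pow_add, ← two_mul, ← pow_succ', ← hm, pow_orderOf_eq_one]
      obtain ⟨⟨s, hs, hst⟩, htc⟩ := Subgroup.mem_inf.1 (pow_mem ht₁ (2 ^ m) : t ∈ T ⊓ Subgroup.center θ.range)
      have hval : ((t : (AddMonoid.End M)ˣ) : AddMonoid.End M) = ψ ((s : H) : G) :=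
        (congrArg (fun y : θ.range => ((y : (AddMonoid.End M)ˣ) : AddMonoid.End M)) hst).symm
      have hsK : ((s : H) : G) ∈ K := hs
      refine ⟨((s : H) : G), hsK, fun hc => htne ?_, ?_, fun n hn => ?_⟩
      · obtain ⟨j, hj⟩ := IsPGroup.iff_orderOf.1 Q.isPGroup' s
        refine Subtype.ext (Units.ext ?_)
        rw [hval, C.ztriv _ hsK hc ⟨j, by rw [Subgroup.orderOf_coe, Subgroup.orderOf_coe, hj]⟩]; rfl
      · rw [← hval]
        exact congrArg (fun y : θ.range => ((y : (AddMonoid.End M)ˣ) : AddMonoid.End M)) htt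
      · have hn' : (⟨n, Subgroup.mem_sup_left hn⟩ : H) ∈ (Q : Subgroup H) := hNQ hn
        have := Subgroup.mem_center_iff.1 htc (θ.rangeRestrict ⟨_, hn'⟩)
        have h2 := congrArg (fun y : θ.range => ((y : (AddMonoid.End M)ˣ) : AddMonoid.End M)) this
        rw [← hval]
        exact h2.symm
    have hzX : ∀ v ∈ X, ψ z v ∈ X := fun v hv => fix_of_commute (hzN n₀ hn₀) hv
    have hzn : z ∈ Subgroup.normalizer (K : Set G) := Subgroup.le_normalizer hzK
    obtain ⟨hzh, hzs⟩ := C.half hzn hz2 hzc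
    -- vectors outside `X` moved into `X`
    obtain ⟨u, huX, huz⟩ : ∃ u, u ∉ X ∧ ψ z u - u ∈ X := by
      by_cases h : ∀ v, ψ z v - v ∈ X
      · obtain ⟨u, hu⟩ : ∃ u, u ∉ X := by
          by_contra hu
          push Not at hu
          rw [show X = ⊤ from top_le_iff.1 fun v _ => hu v, AddSubgroup.card_top] at hXX
          nlinarith
        exact ⟨u, hu, h u⟩
      · push Not at h
        obtain ⟨w, hw⟩ := h
        refine ⟨_, hw, ?_⟩
        rw [C.sq_sub_one hz2, sub_self]
        exact X.zero_mem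
    have heval : ∀ n ∈ N, ψ z (ψ n u - u) = ψ n u - u := fun n hn => by
      have e := hfixX n hn _ huz
      rw [map_sub, ← end_mul, (hzN n hn).eq, end_mul]
      rw [map_sub] at e
      rw [← sub_eq_zero] at e ⊢
      rw [← e]; abel
    have hinj : ∀ n ∈ N, ∀ m ∈ N, ψ n u - u = ψ m u - u → n = m := fun n hn m hm h => by
      by_contra hne
      have h1 : n * m ≠ 1 := fun h1 => hne (by
        rw [eq_comm, ← mul_one m, ← C.nsq m hm, ← mul_assoc, C.nsq m hm, one_mul]
        exact (mul_left_cancel (h1.trans (C.nsq n hn).symm)))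
      refine huX ?_
      rw [← hall _ (mul_mem hn hm) h1, mem_fix1, map_mul, end_mul, ← sub_left_inj.1 h, ← end_mul,
        hψn n hn, end_one]
    -- the bound `2 |N| ≤ |X|`
    set CX : AddSubgroup M := X ⊓ fix1 ψ z with hCX
    have hNC : Nat.card N ≤ Nat.card CX := by
      refine Nat.card_le_card_of_injective (fun n : N => (⟨ψ n u - u, hrange n n.2 u,
        (mem_fix1 ψ).2 (heval n n.2)⟩ : CX)) fun n m h => Subtype.ext (hinj n n.2 m m.2 ?_)
      exact congrArg Subtype.val h
    set z' := a * z * a⁻¹ with hz'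
    have hainv : a⁻¹ = a := inv_eq_of_mul_eq_one_right C.aa
    have hza : ψ z' * ψ z' = 1 := by
      rw [hz', map_mul, map_mul, show ψ a * ψ z * ψ a⁻¹ * (ψ a * ψ z * ψ a⁻¹) =
        ψ a * (ψ z * (ψ a⁻¹ * ψ a) * ψ z) * ψ a⁻¹ by noncomm_ring, ← map_mul ψ a⁻¹, inv_mul_cancel,
        map_one, mul_one, hz2, mul_one, ← map_mul, mul_inv_cancel, map_one]
    have hXaX : ∀ v, v ∈ X ↔ ψ a v ∈ X := fun v => by
      have hc := (C.na n₀ hn₀).map ψ
      refine ⟨fix_of_commute hc.symm, fun h => ?_⟩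
      have := fix_of_commute hc.symm h
      rwa [← end_mul, ← map_mul, C.aa, map_one, end_one] at this
    have hkey : 2 * Nat.card N ≤ Nat.card X := by
      by_cases hzfix : ∀ v ∈ X, ψ z v = v
      · have hzrange : ∀ v, ψ z v - v ∈ X := fun v => by
          have hXz : X = fix1 ψ z := AddSubgroup.eq_of_le_of_card_ge (fun v hv => (mem_fix1 ψ).2 (hzfix v hv))
            (Nat.pow_left_injective two_ne_zero (hzh.trans hX2.symm)).le
          rw [hXz]
          exact (mem_fix1 ψ).2 (C.sq_sub_one hz2 v)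
        rw [two_mul, ← Nat.card_sum]
        refine Nat.card_le_card_of_injective (fun s : N ⊕ N => s.elim
          (fun n : N => (⟨ψ n u - u, hrange n n.2 u⟩ : X))
          (fun n : N => (⟨ψ (z * n) u - u, by
            rw [map_mul, end_mul, ← sub_add_sub_cancel _ (ψ n u)]
            exact add_mem (hzrange _) (hrange n n.2 u)⟩ : X))) ?_
        have hadd : ∀ g h : G, (∀ v ∈ X, ψ g v = v) → (∀ v, ψ h v - v ∈ X) →
            ψ (g * h) u - u = (ψ g u - u) + (ψ h u - u) := fun g h hg hh => by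
          rw [map_mul, end_mul]
          have := hg _ (hh u)
          rw [map_sub, sub_eq_iff_eq_add] at this
          rw [this]; abel
        -- `z n` moves `u`
        have hmove : ∀ l ∈ N, ψ (z * l) u ≠ u := by
          intro l hl hfix
          rcases eq_or_ne l 1 with rfl | hl1
          · rw [mul_one] at hfix
            refine huX ?_
            rw [AddSubgroup.eq_of_le_of_card_ge (fun v hv => (mem_fix1 ψ).2 (hzfix v hv))
              (Nat.pow_left_injective two_ne_zero (hzh.trans hX2.symm)).le]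
            exact (mem_fix1 ψ).2 hfix
          have hz'n : Commute (ψ z') (ψ l) := by
            have hla : Commute (ψ l) (ψ a) := (C.na l hl).map ψ
            have hla' : Commute (ψ l) (ψ a⁻¹) := (C.na l hl).inv_right.map ψ
            rw [hz', map_mul, map_mul]
            exact ((hla.symm.mul_left (hzN l hl)).mul_left hla'.symm)
          have he : ψ (z' * l) * ψ (z' * l) = 1 := by
            rw [map_mul, show ψ z' * ψ l * (ψ z' * ψ l) = ψ z' * (ψ l * ψ z') * ψ l by noncomm_ring,
              ← hz'n.eq, show ψ z' * (ψ z' * ψ l) * ψ l = (ψ z' * ψ z') * (ψ l * ψ l) by noncomm_ring,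
              hza, hψn l hl, one_mul]
          have hz'K : ∀ k ∈ K, Commute z' k := fun k hk => C.comm z hzK k hk
          have hz'c : z' ∈ Subgroup.centralizer (K : Set G) :=
            Subgroup.mem_centralizer_iff.2 fun k hk => (hz'K k hk).eq.symm
          have hen : z' * l ∈ Subgroup.normalizer (K : Set G) :=
            mul_mem (Subgroup.centralizer_le_normalizer _ hz'c) (C.nnorm hl)
          have hec : z' * l ∉ Subgroup.centralizer (K : Set G) := fun h => C.nfaith l hl hl1
            ((Subgroup.mul_mem_cancel_left _ hz'c).1 h)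
          obtain ⟨he2, -⟩ := C.half hen he hec
          have hXe : X ≤ fix1 ψ (z' * l) := fun v hv => by
            rw [mem_fix1, map_mul, end_mul, hfixX l hl v hv, hz', map_mul, map_mul, end_mul, end_mul, hainv,
              hzfix _ ((hXaX v).1 hv), ← end_mul, ← map_mul, C.aa, map_one, end_one]
          have hXeq := AddSubgroup.eq_of_le_of_card_ge hXe
            (Nat.pow_left_injective two_ne_zero (he2.trans hX2.symm)).le
          refine huX ((hXaX u).2 ?_)
          rw [hXeq, mem_fix1]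
          have e1 : z' * l * a = a * (z * l) := by
            rw [hz', mul_assoc _ l, (C.na l hl).eq]; group
          rw [← end_mul, ← map_mul, e1, map_mul, end_mul, hfix]
        intro s s' h
        have h' := congrArg Subtype.val h
        rcases s with ⟨n, hn⟩ | ⟨n, hn⟩ <;> rcases s' with ⟨m, hm⟩ | ⟨m, hm⟩ <;>
          simp only [Sum.elim_inl, Sum.elim_inr] at h'
        · exact congrArg _ (Subtype.ext (hinj n hn m hm h'))
        · exfalso
          rw [hadd z m hzfix (fun v => hrange m hm v)] at h'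
          refine hmove (m * n) (mul_mem hm hn) (sub_eq_zero.1 ?_)
          rw [hadd z (m * n) hzfix (fun v => hrange _ (mul_mem hm hn) v),
            hadd m n (hfixX m hm) (fun v => hrange n hn v), h']
          have h0 := C.two (ψ z u - u + (ψ m u - u))
          rw [two_nsmul] at h0
          rw [← h0]; abel
        · exfalso
          rw [hadd z n hzfix (fun v => hrange n hn v)] at h'
          refine hmove (n * m) (mul_mem hn hm) (sub_eq_zero.1 ?_)
          rw [hadd z (n * m) hzfix (fun v => hrange _ (mul_mem hn hm) v),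
            hadd n m (hfixX n hn) (fun v => hrange m hm v), ← h']
          have h0 := C.two (ψ z u - u + (ψ n u - u))
          rw [two_nsmul] at h0
          rw [← h0]; abel
        · rw [hadd z n hzfix (fun v => hrange n hn v), hadd z m hzfix (fun v => hrange m hm v)] at h'
          exact congrArg _ (Subtype.ext (hinj n hn m hm (add_left_cancel h')))
      · push Not at hzfix
        obtain ⟨v, hv, hvz⟩ := hzfix
        have hlt : CX < X := lt_of_le_not_ge inf_le_left fun h => hvz ((mem_fix1 ψ).1 (h hv).2)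
        have hidx := AddSubgroup.relIndex_eq_one.not.2 hlt.not_ge
        have hmul : Nat.card CX * CX.relIndex X = Nat.card X := by
          rw [← AddSubgroup.relIndex_bot_left, ← AddSubgroup.relIndex_bot_left]
          exact AddSubgroup.relIndex_mul_relIndex _ _ _ bot_le hlt.le
        have h0 : CX.relIndex X ≠ 0 := fun h => by rw [h, mul_zero] at hmul; omega
        calc 2 * Nat.card N ≤ CX.relIndex X * Nat.card CX := Nat.mul_le_mul (by omega) hNC
          _ = _ := by rw [mul_comm, hmul]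
    rcases hoff with h | ⟨hqa, h⟩
    · rw [hfixN, hXX] at h
      have := Nat.le_of_mul_le_mul_right h hXpos
      omega
    -- here `a` acts trivially on `X` and `|X| = 2 |N|`
    have heq : 2 * Nat.card N = Nat.card X := le_antisymm hkey hXN
    rw [hXX, ← heq] at h
    have hfe : fixSet ψ (insert a (N : Set G)) = X := AddSubgroup.eq_of_le_of_card_ge
      (hfixN ▸ fixSet_anti ψ (Set.subset_insert _ _))
      (heq ▸ Nat.le_of_mul_le_mul_left h (by omega))
    have haX : ∀ v ∈ X, ψ a v = v := fun v hv => by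
      rw [← hfe] at hv; exact hv a (Set.mem_insert _ _)
    have harange : ∀ v, ψ a v - v ∈ X := fun v =>
      (mem_fix1 ψ).2 (sub_eq_zero.1 (DFunLike.congr_fun (hqa n₀ hn₀) v))
    by_cases hzfix : ∀ v ∈ X, ψ z v = v
    · have hXz : X = fix1 ψ z := AddSubgroup.eq_of_le_of_card_ge (fun v hv => (mem_fix1 ψ).2 (hzfix v hv))
        (Nat.pow_left_injective two_ne_zero (hzh.trans hX2.symm)).le
      have hzr : ∀ v, ψ z v - v ∈ X := fun v => hXz ▸ (mem_fix1 ψ).2 (C.sq_sub_one hz2 v)
      have hcza : Commute (ψ a) (ψ z) := AddMonoidHom.ext fun v => by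
        show ψ a (ψ z v) = ψ z (ψ a v)
        have e1 := haX _ (hzr v)
        have e2 := hzfix _ (harange v)
        rw [map_sub, sub_eq_iff_eq_add] at e1 e2
        rw [e1, e2]; abel
      refine hzc (C.qs.central_of_image_comm ψ C.ne hzK fun k hk => ?_)
      have hzz : ψ z' = ψ z := by
        rw [hz', map_mul, map_mul, hcza.eq, mul_assoc, ← map_mul ψ a, mul_inv_cancel, map_one, mul_one]
      rw [← hzz]
      exact (C.comm z hzK k hk).map ψ
    · -- the fixed points of `z` on `X` form a hyperplane `CX`, and `N` is too big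
      push Not at hzfix
      obtain ⟨v, hv, hvz⟩ := hzfix
      have hlt : CX < X := lt_of_le_not_ge inf_le_left fun h => hvz ((mem_fix1 ψ).1 (h hv).2)
      have hmul : Nat.card CX * CX.relIndex X = Nat.card X := by
        rw [← AddSubgroup.relIndex_bot_left, ← AddSubgroup.relIndex_bot_left]
        exact AddSubgroup.relIndex_mul_relIndex _ _ _ bot_le hlt.le
      have hidx1 := AddSubgroup.relIndex_eq_one.not.2 hlt.not_ge
      have hidx : CX.relIndex X = 2 := by
        have h0 : CX.relIndex X ≠ 0 := fun h => by rw [h, mul_zero] at hmul; omega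
        by_contra hne2
        have := Nat.mul_le_mul hNC (show 3 ≤ CX.relIndex X by omega)
        rw [hmul] at this
        omega
      obtain ⟨w, hw⟩ : ∃ w, ψ n₀ w - w ∉ CX := by
        by_contra hw
        push Not at hw
        refine hlt.not_ge fun x hx => ?_
        obtain ⟨y, rfl⟩ := hXs x hx
        exact hw y
      have hout : ∀ n ∈ N, n ≠ 1 → ψ n w - w ∉ CX := by
        intro n hn hn1 hc
        refine hw ⟨hrange n₀ hn₀ w, (mem_fix1 ψ).2 ?_⟩
        have h1 : ψ z (ψ n w - w) = ψ n w - w := (mem_fix1 ψ).1 hc.2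
        rw [map_sub, ← end_mul, (hzN n hn).eq, end_mul] at h1
        have hzw : ψ z w - w ∈ X := by
          rw [← hall n hn hn1, mem_fix1, map_sub]
          rw [← sub_eq_zero] at h1 ⊢
          rw [← h1]; abel
        have h2 := hfixX n₀ hn₀ _ hzw
        rw [map_sub] at h2 ⊢
        rw [← end_mul, (hzN n₀ hn₀).eq, end_mul]
        rw [← sub_eq_zero] at h2 ⊢
        rw [← h2]; abel
      -- two different nontrivial elements
      obtain ⟨m, hm, hm1, hm0⟩ : ∃ m ∈ N, m ≠ 1 ∧ m ≠ n₀ := by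
        by_contra hcon
        push Not at hcon
        have : Nat.card N ≤ 2 := by
          refine le_trans (Nat.card_le_card_of_injective (fun n : N => decide ((n : G) = 1)) ?_)
            (by rw [Nat.card_eq_fintype_card, Fintype.card_bool])
          intro x y hxy
          apply Subtype.ext
          have hiff := decide_eq_decide.1 hxy
          by_cases hx : (x : G) = 1
          · rw [hx, hiff.1 hx]
          · rw [hcon x x.2 hx, hcon y y.2 (fun hy => hx (hiff.2 hy))]
        omega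
      have hnm : n₀ * m ≠ 1 := fun h => hm0 (mul_left_cancel (h.trans (C.nsq n₀ hn₀).symm))
      refine hout _ (mul_mem hn₀ hm) hnm ?_
      have hadd : ψ (n₀ * m) w - w = (ψ n₀ w - w) + (ψ m w - w) := by
        rw [map_mul, end_mul]
        have := hfixX n₀ hn₀ _ (hrange m hm w)
        rw [map_sub, sub_eq_iff_eq_add] at this
        rw [this]; abel
      rw [hadd]
      exact add_mem_of_relIndex_two hlt.le hidx (hrange _ hn₀ w) (hrange _ hm w) hw (hout m hm hm1)
  · -- every `2`-element of `K` is central, so four-subgroups of `N` generate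
    push Not at hz
    exact C.absurd_of_odd (fun x hx hxc e he => hz x hx hxc e he) hall hn₀ hn₀1 hrange hfixX (by omega)

end Cfsg.Agent.PGV.Conf
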