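import Cfsg.Agent.Lib.Lead.PGV.TwoFinal

/-!
# Two components swapped by an element of a best offender in characteristic two
-/

set_option autoImplicit false
open scoped commutatorElement

namespace Cfsg.Agent.PGV

universe u v

variable {G : Type u} [Group G] {V : Type v} [AddCommGroup V] (φ : G →* AddMonoid.End V)

/-- The restriction of an action to an invariant subgroup, on its stabiliser. -/
def stabOf [Finite G] (M : AddSubgroup V) : Subgroup G where
  carrier := {g | ∀ v, v ∈ M ↔ φ g v ∈ M}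
  one_mem' v := by rw [map_one]; rfl
  mul_mem' {g h} hg hh v := by rw [map_mul, end_mul]; exact (hh v).trans (hg _)
  inv_mem' {g} hg v := by rw [hg (φ g⁻¹ v), act_cancel_inv]

theorem mem_stabOf [Finite G] [Finite V] {M : AddSubgroup V} {g : G} (h : ∀ v ∈ M, φ g v ∈ M) :
    g ∈ stabOf φ M := by
  intro v
  refine ⟨h v, fun hv => ?_⟩
  let f : M → M := fun w => ⟨φ g w, h w w.2⟩
  have hf : Function.Injective f := fun x y e => Subtype.ext (act_injective φ g (congrArg Subtype.val e))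
  obtain ⟨w, hw⟩ := (Finite.injective_iff_surjective.1 hf) ⟨φ g v, hv⟩
  exact act_injective φ g (congrArg Subtype.val hw) ▸ w.2

/-- The restricted action. -/
def restr [Finite G] (M : AddSubgroup V) : stabOf φ M →* AddMonoid.End M where
  toFun g := AddMonoidHom.mk' (fun v => ⟨φ (g : G) v, (g.2 _).1 v.2⟩)
    fun x y => Subtype.ext (map_add (φ (g : G)) (x : V) y)
  map_one' := AddMonoidHom.ext fun v => Subtype.ext (by
    show φ ((1 : stabOf φ M) : G) (v : V) = (v : V); rw [OneMemClass.coe_one, map_one]; rfl)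
  map_mul' g h := AddMonoidHom.ext fun v => Subtype.ext (by
    show φ ((g * h : stabOf φ M) : G) (v : V) = φ (g : G) (φ (h : G) v)
    rw [Subgroup.coe_mul, map_mul]; rfl)

theorem restr_val [Finite G] {M : AddSubgroup V} (g : stabOf φ M) (v : M) :
    ((restr φ M g v : M) : V) = φ (g : G) v := rfl

/-- A commutative `p`-group fixes a nonzero vector of each invariant subgroup. -/
theorem exists_fixed [Finite V] {p : ℕ} [Fact p.Prime] (hV : ∀ v : V, p • v = 0) {W : Subgroup G}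
    (hW : IsPGroup p W) (U : AddSubgroup V) (hU : U ≠ ⊥) (hinv : ∀ g ∈ W, ∀ v ∈ U, φ g v ∈ U) :
    ∃ v ∈ U, v ≠ 0 ∧ ∀ g ∈ W, φ g v = v := by
  letI : MulAction W U :=
    { smul := fun g v => ⟨φ (g : G) v, hinv g g.2 v v.2⟩
      one_smul := fun v => Subtype.ext (by show φ ((1 : W) : G) v = v; rw [OneMemClass.coe_one, map_one]; rfl)
      mul_smul := fun g h v => Subtype.ext (by
        show φ ((g * h : W) : G) v = φ (g : G) (φ (h : G) v)
        rw [Subgroup.coe_mul, map_mul]; rfl) }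
  obtain ⟨u, hu, hu0⟩ := U.bot_or_exists_ne_zero.resolve_left hU
  have hd : p ∣ Nat.card U := by
    have h : addOrderOf (⟨u, hu⟩ : U) = p :=
      addOrderOf_eq_prime (Subtype.ext (hV u)) fun h => hu0 (congrArg Subtype.val h)
    exact h ▸ addOrderOf_dvd_natCard _
  obtain ⟨b, hb, hb0⟩ := hW.exists_fixed_point_of_prime_dvd_card_of_fixed_point U hd
    (a := (0 : U)) (fun g => Subtype.ext (map_zero (φ (g : G))))
  exact ⟨b, b.2, fun h => hb0 (Subtype.ext h.symm), fun g hg => congrArg Subtype.val (hb ⟨g, hg⟩)⟩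

/-- `T k = k + k⁻¹`. -/
def tr (k : G) : AddMonoid.End V := φ k + φ k⁻¹

section

variable [Finite G] (hV : ∀ v : V, 2 • v = 0) {K : Subgroup G}

include hV in
theorem neg_eq_self (v : V) : -v = v := by rw [neg_eq_iff_add_eq_zero, ← two_nsmul]; exact hV v

include hV in
theorem tr_act (k : G) (v : V) : tr φ k (φ k v) = φ k (φ k v - v) - (φ k v - v) := by
  show φ k (φ k v) + φ k⁻¹ (φ k v) = _
  rw [act_inv_cancel, map_sub, sub_sub, add_sub, ← two_nsmul, hV, zero_sub, sub_neg_eq_add]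

include hV in
theorem fix_of_tr {k : G} (hk : Odd (orderOf k)) {v : V} (h : tr φ k v = 0) : φ k v = v := by
  obtain ⟨j, hj⟩ := hk
  have h1 : φ k v + φ k⁻¹ v = 0 := h
  have h2 : φ (k * k) v = v := by
    have h3 : φ k (φ k v + φ k⁻¹ v) = 0 := by rw [h1, map_zero]
    rw [map_add, act_cancel_inv, ← end_mul, ← map_mul] at h3
    rw [eq_neg_of_add_eq_zero_left h3, neg_eq_self hV]
  have h3 := pow_act_fixed φ h2 (j + 1)
  rwa [← pow_two, ← pow_mul, show 2 * (j + 1) = orderOf k + 1 by omega, pow_succ, pow_orderOf_eq_one,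
    one_mul] at h3

include hV in
/-- For an odd element, `range (k - 1) = range (T k)`. -/
theorem range_tr [Finite V] {k : G} (hk : Odd (orderOf k)) :
    (AddMonoidHom.range (tr φ k : V →+ V)) = AddMonoidHom.range ((φ k - 1 : AddMonoid.End V) : V →+ V) := by
  apply le_antisymm
  · rintro _ ⟨v, rfl⟩
    refine ⟨φ k (φ k⁻¹ v) - φ k⁻¹ v, ?_⟩
    show φ k _ - _ = tr φ k v
    conv_rhs => rw [← act_cancel_inv φ k v, tr_act φ hV]
    rfl
  · rintro _ ⟨v, rfl⟩
    set R := AddMonoidHom.range ((φ k - 1 : AddMonoid.End V) : V →+ V) with hR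
    let f : R → R := fun w => ⟨φ k w - w, ⟨w, rfl⟩⟩
    have hker : ∀ w ∈ R, φ k w - w = 0 → w = 0 := by
      rintro _ ⟨x, rfl⟩ h
      have hcop : (orderOf k).Coprime 2 := (Nat.coprime_two_right).2 hk
      exact sub_eq_zero.2 (fixed_of_fixed_diff φ hV hcop (sub_eq_zero.1 h))
    have hf : Function.Injective f := fun x y h => by
      have h' : φ k (x : V) - x = φ k (y : V) - y := congrArg Subtype.val h
      refine Subtype.ext (sub_eq_zero.1 (hker _ (sub_mem x.2 y.2) ?_))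
      rw [map_sub]
      rw [← sub_eq_zero] at h'
      rw [← h']; abel
    obtain ⟨⟨w, x, hx⟩, hw⟩ := Finite.injective_iff_surjective.1 hf ⟨_, v, rfl⟩
    refine ⟨φ k x, ?_⟩
    show tr φ k (φ k x) = _
    have hx' : φ k x - x = w := hx
    rw [tr_act φ hV, hx']
    exact congrArg Subtype.val hw

/-- The data of two components swapped by `b` whose diagonal fixes what `b` moves. -/
structure Swap (K : Subgroup G) (b : G) : Prop where
  bb : b * b = 1
  comm : ∀ x ∈ K, ∀ y ∈ K, Commute (b * x * b⁻¹) y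
  fixes : ∀ k ∈ K, (φ b - 1) * φ (k * (b * k * b⁻¹)) = φ b - 1

theorem Swap.of_quad (hK : QS K) {b n : G} (hbb : b * b = 1)
    (hcomm : ∀ x ∈ K, ∀ y ∈ K, Commute (b * x * b⁻¹) y) (hnb : Commute n b)
    (hn : n ∈ Subgroup.normalizer (K : Set G)) (hq : φ n * (φ b - 1) = φ b - 1)
    (hnc : n ∉ Subgroup.centralizer (K : Set G)) : Swap φ K b := by
  refine ⟨hbb, hcomm, fun k hk => ?_⟩
  let δ : K →* G :=
    { toFun := fun x => (x : G) * (b * x * b⁻¹)
      map_one' := by simp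
      map_mul' := fun x y => by
        push_cast
        have h := hcomm x x.2 y y.2
        calc (x : G) * y * (b * (x * y) * b⁻¹) = x * ((y : G) * (b * x * b⁻¹)) * (b * y * b⁻¹) := by group
          _ = _ := by rw [← h.eq]; group }
  have hbi : b⁻¹ = b := inv_eq_of_mul_eq_one_right hbb
  have hδb : ∀ x, Commute b (δ x) := fun x => by
    show b * ((x : G) * (b * x * b⁻¹)) = (x : G) * (b * x * b⁻¹) * b
    calc b * ((x : G) * (b * x * b⁻¹)) = b * x * b⁻¹ * ((b * b) * x * (b * b)⁻¹) * b := by group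
      _ = b * x * b⁻¹ * x * b := by rw [hbb]; group
      _ = _ := by rw [(hcomm x x.2 x x.2).eq]
  exact (diag_fixes φ hK δ hδb hnb hn (fun x h => by
    show n * x * n⁻¹ * (b * (n * x * n⁻¹) * b⁻¹) = n * ((x : G) * (b * x * b⁻¹)) * n⁻¹
    calc n * x * n⁻¹ * (b * (n * x * n⁻¹) * b⁻¹) = n * x * n⁻¹ * ((b * n) * x * (b * n)⁻¹) := by group
      _ = _ := by rw [← hnb.eq]; group) hq hnc ⟨k, hk⟩).2

variable {φ}

theorem Swap.tr_eq {b : G} (h : Swap φ K b) {k : G} (hk : k ∈ K) : tr φ (b * k * b⁻¹) = tr φ k := by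
  set k' := b * k * b⁻¹ with hk'
  have hc : Commute k' k := h.comm k hk k hk
  have hd : Commute b (k * k') := by
    show b * (k * k') = k * k' * b
    calc b * (k * k') = k' * ((b * b) * k * (b * b)⁻¹) * b := by rw [hk']; group
      _ = k * k' * b := by rw [h.bb, one_mul, inv_one, mul_one, hc.eq]
  have h0 := conj_eq_on_moved φ hd ((Commute.refl k).mul_right hc.symm) (h.fixes k hk)
  have h1 : (φ k' - φ k) * (1 - φ (k * k')⁻¹) = 0 := by
    calc (φ k' - φ k) * (1 - φ (k * k')⁻¹) = (φ k' - φ k) * (φ (k * k') - 1) * φ (k * k')⁻¹ := by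
          rw [mul_assoc (φ k' - φ k), sub_mul (φ (k * k')), ← map_mul, mul_inv_cancel, map_one, one_mul]
      _ = 0 := by rw [h0, zero_mul]
  have e1 : φ k' * φ (k * k')⁻¹ = φ k⁻¹ := by
    rw [← map_mul, mul_inv_rev, mul_inv_cancel_left]
  have e2 : φ k * φ (k * k')⁻¹ = φ k'⁻¹ := by
    rw [← map_mul, hc.symm.eq, mul_inv_rev, mul_inv_cancel_left]
  rw [mul_sub, mul_one, sub_mul, e1, e2, sub_eq_zero] at h1
  show φ k' + φ k'⁻¹ = φ k + φ k⁻¹
  rw [sub_eq_iff_eq_add] at h1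
  rw [h1]; abel

theorem Swap.tr_conj {b : G} (h : Swap φ K b) {k g : G} (hk : k ∈ K) (hg : g ∈ K) :
    tr φ (g * k * g⁻¹) = tr φ k := by
  have e : ∀ x : G, φ g * tr φ x * φ g⁻¹ = tr φ (g * x * g⁻¹) := fun x => by
    simp only [tr, mul_add, add_mul, ← map_mul]
    congr 2; group
  have hc : g * (b * k * b⁻¹) * g⁻¹ = b * k * b⁻¹ := by
    rw [← (h.comm k hk g hg).eq]; group
  rw [← e, ← h.tr_eq hk, e, hc]

include hV in
theorem Swap.fix_eq [Finite V] (hK : QS K) {b : G} (h : Swap φ K b) {k : G} (hk : k ∈ K)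
    (hkc : k ∉ Subgroup.centralizer (K : Set G)) (hodd : Odd (orderOf k)) {v : V} (hv : φ k v = v) :
    ∀ x ∈ K, φ x v = v := by
  have hle : K ≤ pstab φ {v} := hK.le_of_conjugates hk hkc _ fun g hg w hw => by
    rw [Set.mem_singleton_iff.1 hw]
    refine fix_of_tr φ hV (by rw [show g * k * g⁻¹ = MulAut.conj g k from rfl, MulEquiv.orderOf_eq]; exact hodd) ?_
    rw [h.tr_conj hk hg]
    show φ k v + φ k⁻¹ v = 0
    have : φ k⁻¹ v = v := by conv_lhs => rw [← hv]; rw [act_inv_cancel]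
    rw [hv, this, ← two_nsmul, hV]
  exact fun x hx => hle hx v rfl

/-- The elements moving everything into `U`. -/
def movesInto (φ : G →* AddMonoid.End V) (U : AddSubgroup V) : Subgroup G where
  carrier := {g | ∀ v, φ g v - v ∈ U}
  one_mem' v := by rw [map_one, end_one, sub_self]; exact U.zero_mem
  mul_mem' {g h} hg hh v := by
    rw [map_mul, end_mul, ← sub_add_sub_cancel _ (φ h v)]
    exact add_mem (hg _) (hh v)
  inv_mem' {g} hg v := by
    have := neg_mem (hg (φ g⁻¹ v))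
    rwa [act_cancel_inv, neg_sub] at this

include hV in
theorem Swap.moves [Finite V] (hK : QS K) {b : G} (h : Swap φ K b) {k : G} (hk : k ∈ K)
    (hkc : k ∉ Subgroup.centralizer (K : Set G)) (hodd : Odd (orderOf k)) :
    ∀ x ∈ K, x ∈ movesInto φ (AddMonoidHom.range ((φ k - 1 : AddMonoid.End V) : V →+ V)) ∧
      b * x * b⁻¹ ∈ movesInto φ (AddMonoidHom.range ((φ k - 1 : AddMonoid.End V) : V →+ V)) := by
  set U := AddMonoidHom.range ((φ k - 1 : AddMonoid.End V) : V →+ V) with hU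
  have hord : ∀ g y : G, Odd (orderOf y) → Odd (orderOf (g * y * g⁻¹)) := fun g y hy => by
    rw [show g * y * g⁻¹ = MulAut.conj g y from rfl, MulEquiv.orderOf_eq]; exact hy
  have hrange : ∀ y, Odd (orderOf y) → tr φ y = tr φ k → y ∈ movesInto φ U := fun y hy he v => by
    rw [hU, ← range_tr φ hV hodd, ← he, range_tr φ hV hy]
    exact ⟨v, rfl⟩
  intro x hx
  refine ⟨hK.le_of_conjugates hk hkc _ (fun g hg => hrange _ (hord g k hodd) (h.tr_conj hk hg)) hx, ?_⟩
  exact hK.le_of_conjugates hk hkc ((movesInto φ U).comap (MulAut.conj b).toMonoidHom)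
    (fun g hg => hrange _ (hord b _ (hord g k hodd))
      ((h.tr_eq (mul_mem (mul_mem hg hk) (inv_mem hg))).trans (h.tr_conj hk hg))) hx

variable (φ)

include hV in
/-- The whole of the characteristic two case. -/
theorem no_two_case [Finite V] (hK : QS K) (hne : ∃ k ∈ K, φ k ≠ 1) {A N : Subgroup G} {a : G}
    (hab : ∀ x ∈ A, ∀ y ∈ A, Commute x y) (hsq : ∀ x ∈ A, x * x = 1)
    (hdis : ∀ x ∈ A, x ∈ Subgroup.normalizer (K : Set G) ∨ ∀ y ∈ K, ∀ z ∈ K, Commute (x * y * x⁻¹) z)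
    (ha : a ∈ A) (han : a ∉ Subgroup.normalizer (K : Set G)) (hNA : N ≤ A)
    (hNn : N ≤ Subgroup.normalizer (K : Set G)) (hN1 : N ≠ ⊥)
    (hfaith : ∀ n ∈ N, n ≠ 1 → n ∉ Subgroup.centralizer (K : Set G))
    (hquad : ∀ n ∈ N, ∀ b ∈ A, (φ n - 1) * (φ b - 1) = 0)
    (hoff : Nat.card V ≤ Nat.card N * Nat.card (fixSet φ (N : Set G)) ∨
      ((∀ x ∈ A, x ∈ Subgroup.normalizer (K : Set G) → x ∈ N) ∧
        Nat.card V ≤ Nat.card A * Nat.card (fixSet φ (A : Set G)))) : False := by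
  classical
  obtain ⟨n₁, hn₁, hn₁1⟩ := N.bot_or_exists_ne_one.resolve_left hN1
  have hswap : ∀ b ∈ A, b ∉ Subgroup.normalizer (K : Set G) → Swap φ K b := fun b hb hbn => by
    refine Swap.of_quad φ hK (hsq b hb) ((hdis b hb).resolve_left hbn) (hab _ (hNA hn₁) b hb) (hNn hn₁) ?_
      (hfaith n₁ hn₁ hn₁1)
    have := hquad n₁ hn₁ b hb
    rwa [sub_mul, one_mul, sub_eq_zero] at this
  obtain ⟨r, hr, hr2, -, k₀, hk₀, hk₀c, -, e, he⟩ := hK.exists_prime_element Nat.prime_three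
  have hk₀o : Odd (orderOf k₀) := by rw [he]; exact (hr.odd_of_ne_two hr2).pow
  set V₁ := AddMonoidHom.range ((φ k₀ - 1 : AddMonoid.End V) : V →+ V) with hV₁
  have hsa := hswap a ha han
  have hV₁fix : ∀ v ∈ V₁, (∀ x ∈ K, φ x v = v) → v = 0 := by
    rintro _ ⟨w, rfl⟩ h
    have hcop : (orderOf k₀).Coprime 2 := (Nat.coprime_two_right).2 hk₀o
    exact sub_eq_zero.2 (fixed_of_fixed_diff φ hV hcop (h k₀ hk₀))
  have hai : a⁻¹ = a := inv_eq_of_mul_eq_one_right (hsq a ha)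
  -- an orbit of two
  have hidx : ∀ (_ : ∀ x ∈ A, x ∈ Subgroup.normalizer (K : Set G) → x ∈ N), ∀ b ∈ A, b ∈ N ∨ a * b ∈ N := by
    intro hAN b hb
    by_contra hcon
    push Not at hcon
    have hbn : b ∉ Subgroup.normalizer (K : Set G) := fun h => hcon.1 (hAN b hb h)
    have habn : a * b ∉ Subgroup.normalizer (K : Set G) := fun h => hcon.2 (hAN _ (mul_mem ha hb) h)
    have hsb := hswap b hb hbn
    have hsab := hswap _ (mul_mem ha hb) habn
    have hac : Commute a b := hab a ha b hb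
    have key : ∀ x ∈ K, φ (a * (b * x * b⁻¹) * a⁻¹) = φ (b * x * b⁻¹) := by
      intro x hx
      set y := b * x * b⁻¹ with hy
      set X := φ (a * y * a⁻¹) - φ y with hX
      have hyk : ∀ k ∈ K, Commute y k := fun k hk => hsb.comm x hx k hk
      have hay : ∀ k ∈ K, Commute (a * y * a⁻¹) k := fun k hk => by
        have h := hsab.comm x hx k hk
        rwa [show a * b * x * (a * b)⁻¹ = a * y * a⁻¹ by rw [hy]; group] at h
      have hyk' : ∀ k ∈ K, Commute y (a * k * a⁻¹) := fun k hk => by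
        have h := Commute.map (hay k hk) (MulAut.conj a)
        simp only [MulAut.conj_apply] at h
        rwa [show a * (a * y * a⁻¹) * a⁻¹ = (a * a) * y * (a * a)⁻¹ by group, hsq a ha, one_mul,
          inv_one, mul_one] at h
      have hid : ∀ k ∈ K, X * (φ (k * (a * k * a⁻¹)) - 1) = 0 := fun k hk => by
        refine conj_eq_on_moved φ ?_ ((hyk k hk).mul_right (hyk' k hk)) (hsa.fixes k hk)
        show a * (k * (a * k * a⁻¹)) = k * (a * k * a⁻¹) * a
        calc a * (k * (a * k * a⁻¹)) = a * k * a⁻¹ * ((a * a) * k * (a * a)⁻¹) * a := by group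
          _ = a * k * a⁻¹ * k * a := by rw [hsq a ha, one_mul, inv_one, mul_one]
          _ = _ := by rw [(hsa.comm k hk k hk).eq]
      have hXc : ∀ k ∈ K, Commute (φ k) X := fun k hk =>
        (((hay k hk).map φ).symm).sub_right ((hyk k hk).map φ).symm
      have hgen : ∀ g ∈ K, ⁅g, k₀⁆ ∈ stabR φ X := by
        intro g hg
        set d := k₀ * (a * k₀ * a⁻¹) with hd
        have hconj : g * d * g⁻¹ = ⁅g, k₀⁆ * d := by
          have hc : Commute g (a * k₀ * a⁻¹) := (hsa.comm k₀ hk₀ g hg).symm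
          calc g * d * g⁻¹ = g * k₀ * (g⁻¹ * (g * (a * k₀ * a⁻¹))) * g⁻¹ := by rw [hd]; group
            _ = g * k₀ * (g⁻¹ * ((a * k₀ * a⁻¹) * g)) * g⁻¹ := by rw [hc.eq]
            _ = g * k₀ * g⁻¹ * (a * k₀ * a⁻¹) := by group
            _ = _ := by rw [hd, commutatorElement_def]; group
        have h1 := hid k₀ hk₀
        have h2 : X * (φ (g * d * g⁻¹) - 1) = 0 := by
          have hg' : φ g * φ g⁻¹ = 1 := by rw [← map_mul, mul_inv_cancel, map_one]
          have e0 : φ (g * d * g⁻¹) - 1 = φ g * (φ d - 1) * φ g⁻¹ := by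
            rw [map_mul, map_mul, mul_sub, mul_one, sub_mul, hg']
          calc X * (φ (g * d * g⁻¹) - 1) = X * (φ g * (φ d - 1) * φ g⁻¹) := by rw [e0]
            _ = φ g * (X * (φ d - 1)) * φ g⁻¹ := by
                rw [← mul_assoc, ← mul_assoc, ← (hXc g hg).eq]; noncomm_ring
            _ = 0 := by rw [h1, mul_zero, zero_mul]
        rw [hconj, map_mul] at h2
        rw [mem_stabR, ← sub_eq_zero]
        have h3 : (X * φ ⁅g, k₀⁆ - X) * φ d = 0 := by
          calc (X * φ ⁅g, k₀⁆ - X) * φ d = X * (φ ⁅g, k₀⁆ * φ d - 1) - X * (φ d - 1) := by noncomm_ring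
            _ = 0 := by rw [h2, h1, sub_zero]
        calc X * φ ⁅g, k₀⁆ - X = (X * φ ⁅g, k₀⁆ - X) * (φ d * φ d⁻¹) := by
              rw [← map_mul, mul_inv_cancel, map_one, mul_one]
          _ = 0 := by rw [← mul_assoc, h3, zero_mul]
      have hall := hK.le_of_commutators hk₀ hk₀c _ hgen
      refine sub_eq_zero.1 (AddMonoidHom.ext fun v => ?_)
      show φ (a * y * a⁻¹) v - φ y v = 0
      refine hV₁fix _ ?_ fun k hk => ?_
      · have h1 := (hsb.moves hV hK hk₀ hk₀c hk₀o x hx).2 v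
        have h2 := (hsab.moves hV hK hk₀ hk₀c hk₀o x hx).2 v
        rw [show a * b * x * (a * b)⁻¹ = a * y * a⁻¹ by rw [hy]; group] at h2
        rw [← sub_sub_sub_cancel_right _ _ v]
        exact sub_mem h2 h1
      · have h : φ k * X = X := by rw [(hXc k hk).eq]; exact hall hk
        exact DFunLike.congr_fun h v
    -- so the image of `K` is abelian
    refine hK.image_not_comm φ hne fun x hx z hz => ?_
    have h1 := ((hsa.comm x hx z hz).map φ)
    have h2 : φ (a * x * a⁻¹) = φ x := by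
      have h := congrArg (fun f => φ b * f * φ b⁻¹) (key x hx)
      simp only [← map_mul] at h
      have hbi : b⁻¹ = b := inv_eq_of_mul_eq_one_right (hsq b hb)
      have e1 : b * (a * (b * x * b⁻¹) * a⁻¹) * b⁻¹ = (b * b) * (a * x * a⁻¹) * (b * b)⁻¹ := by
        calc b * (a * (b * x * b⁻¹) * a⁻¹) * b⁻¹ = b * (a * b) * x * (b * (a * b))⁻¹ := by group
          _ = _ := by rw [hac.eq]; group
      have e2 : b * (b * x * b⁻¹) * b⁻¹ = (b * b) * x * (b * b)⁻¹ := by group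
      rw [e1, e2, hsq b hb] at h
      simpa using h
    rwa [h2] at h1
  -- the module
  let Z₂ : Set G := {z | z ∈ K ∧ z ∈ Subgroup.centralizer (K : Set G) ∧ ∃ j, orderOf z = 2 ^ j}
  let Zs : Set G := Z₂ ∪ (fun z => a * z * a⁻¹) '' Z₂
  set M : AddSubgroup V := V₁ ⊓ fixSet φ Zs with hM
  have hmovK : ∀ x ∈ K, x ∈ movesInto φ V₁ := fun x hx => (hsa.moves hV hK hk₀ hk₀c hk₀o x hx).1
  have hmovK' : ∀ x ∈ K, a * x * a⁻¹ ∈ movesInto φ V₁ := fun x hx =>
    (hsa.moves hV hK hk₀ hk₀c hk₀o x hx).2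
  have hV₁of : ∀ g, g ∈ movesInto φ V₁ → ∀ v ∈ V₁, φ g v ∈ V₁ := fun g hg v hv => by
    have := add_mem (hg v) hv
    rwa [sub_add_cancel] at this
  have hV₁conj : ∀ g, g * k₀ * g⁻¹ ∈ movesInto φ V₁ → ∀ v ∈ V₁, φ g v ∈ V₁ := by
    rintro g hg _ ⟨w, rfl⟩
    show φ g (φ k₀ w - w) ∈ V₁
    have := hg (φ g w)
    rwa [← end_mul, ← map_mul, inv_mul_cancel_right, map_mul, end_mul, ← map_sub] at this
  -- a commutative `2`-group of central elements
  have hZcomm : ∀ x ∈ Zs, ∀ y ∈ Zs, x * y = y * x := by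
    have h1 : ∀ x ∈ Z₂, ∀ y ∈ Z₂, Commute x y := fun x hx y hy =>
      (Subgroup.mem_centralizer_iff.1 hx.2.1 y hy.1).symm
    rintro x (hx | ⟨x, hx, rfl⟩) y (hy | ⟨y, hy, rfl⟩)
    · exact (h1 x hx y hy).eq
    · exact (hsa.comm y hy.1 x hx.1).symm.eq
    · exact (hsa.comm x hx.1 y hy.1).eq
    · exact ((h1 x hx y hy).map (MulAut.conj a)).eq
  set W := Subgroup.closure Zs with hW
  have hWc := Subgroup.isMulCommutative_closure hZcomm
  have hWp : IsPGroup 2 W := by
    rintro ⟨x, hx⟩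
    suffices h : ∃ j : ℕ, x ^ 2 ^ j = 1 from let ⟨j, hj⟩ := h; ⟨j, Subtype.ext hj⟩
    induction hx using Subgroup.closure_induction with
    | one => exact ⟨0, one_pow _⟩
    | mem x hx =>
      rcases hx with ⟨-, -, j, hj⟩ | ⟨z, ⟨-, -, j, hj⟩, rfl⟩
      · exact ⟨j, by rw [← hj, pow_orderOf_eq_one]⟩
      · exact ⟨j, by rw [conj_pow, ← hj, pow_orderOf_eq_one, mul_one, mul_inv_cancel]⟩
    | mul x y hx hy ihx ihy =>
      obtain ⟨i, hi⟩ := ihx
      obtain ⟨j, hj⟩ := ihy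
      refine ⟨i + j, ?_⟩
      rw [(show Commute x y from congrArg Subtype.val (hWc.1.1 ⟨x, hx⟩ ⟨y, hy⟩)).mul_pow, pow_add,
        pow_mul, hi, one_pow, one_mul, mul_comm, pow_mul, hj, one_pow]
    | inv x _ ih =>
      obtain ⟨i, hi⟩ := ih
      exact ⟨i, by rw [inv_pow, hi, inv_one]⟩
  have hWmov : W ≤ movesInto φ V₁ := (Subgroup.closure_le _).2 (by
    rintro x (hx | ⟨x, hx, rfl⟩)
    · exact hmovK x hx.1
    · exact hmovK' x hx.1)
  have hV₁ne : V₁ ≠ ⊥ := fun h => by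
    obtain ⟨k, hk, hk1⟩ := hne
    refine hk1 (AddMonoidHom.ext fun v => sub_eq_zero.1 ?_)
    have := hmovK k hk v
    rw [h, AddSubgroup.mem_bot] at this
    exact this
  have hMne : ∃ v ∈ M, v ≠ 0 := by
    haveI : Fact (Nat.Prime 2) := ⟨Nat.prime_two⟩
    obtain ⟨v, hv, hv0, hfix⟩ := exists_fixed φ hV hWp V₁ hV₁ne fun g hg => hV₁of g (hWmov hg)
    exact ⟨v, ⟨hv, fun z hz => hfix z (Subgroup.subset_closure hz)⟩, hv0⟩
  have hstab : ∀ g, (∀ v ∈ V₁, φ g v ∈ V₁) → (∀ z ∈ Zs, g⁻¹ * z * g ∈ Zs) → g ∈ stabOf φ M :=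
    fun g h1 h2 => mem_stabOf φ fun v hv => ⟨h1 v hv.1, fun z hz => by
      rw [← end_mul, ← map_mul, show z * g = g * (g⁻¹ * z * g) by group, map_mul, end_mul,
        hv.2 _ (h2 z hz)]⟩
  set S := stabOf φ M with hS
  have hKS : K ≤ S := fun x hx => hstab x (hV₁of x (hmovK x hx)) (by
    rintro z (hz | ⟨z, hz, rfl⟩)
    · refine Or.inl ?_
      rwa [mul_assoc, ← Subgroup.mem_centralizer_iff.1 hz.2.1 x hx, inv_mul_cancel_left]
    · refine Or.inr ⟨z, hz, ?_⟩
      show a * z * a⁻¹ = x⁻¹ * (a * z * a⁻¹) * x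
      rw [mul_assoc x⁻¹, (hsa.comm z hz.1 x hx).eq, inv_mul_cancel_left])
  have hZN : ∀ n ∈ Subgroup.normalizer (K : Set G), ∀ z ∈ Z₂, n * z * n⁻¹ ∈ Z₂ := by
    rintro n hn z ⟨hzK, hzc, j, hj⟩
    refine ⟨(Subgroup.mem_normalizer_iff.1 hn z).1 hzK, Subgroup.mem_centralizer_iff.2 fun y hy => ?_, j, ?_⟩
    · have h : Commute (n⁻¹ * y * n) z := Subgroup.mem_centralizer_iff.1 hzc _
        ((Subgroup.mem_normalizer_iff''.1 hn y).1 hy)
      have := Commute.map h (MulAut.conj n)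
      simp only [MulAut.conj_apply] at this
      rw [show n * (n⁻¹ * y * n) * n⁻¹ = y by group] at this
      exact this.eq
    · rw [show n * z * n⁻¹ = MulAut.conj n z from rfl, MulEquiv.orderOf_eq, hj]
  have haS : a ∈ S := hstab a (hV₁conj a (hmovK' k₀ hk₀)) (by
    rintro z (hz | ⟨z, hz, rfl⟩)
    · exact Or.inr ⟨z, hz, show a * z * a⁻¹ = a⁻¹ * z * a by rw [hai]⟩
    · exact Or.inl (by rwa [show a⁻¹ * (a * z * a⁻¹) * a = z by group]))
  have hNS : ∀ n ∈ N, n ∈ S := fun n hn => hstab n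
    (hV₁conj n (hmovK _ ((Subgroup.mem_normalizer_iff.1 (hNn hn) k₀).1 hk₀))) (by
    have hni : n⁻¹ ∈ Subgroup.normalizer (K : Set G) := inv_mem (hNn hn)
    rintro z (hz | ⟨z, hz, rfl⟩)
    · exact Or.inl (by simpa using hZN _ hni z hz)
    · refine Or.inr ⟨n⁻¹ * z * n⁻¹⁻¹, hZN _ hni z hz, ?_⟩
      show a * (n⁻¹ * z * n⁻¹⁻¹) * a⁻¹ = _
      have hc : Commute a n := hab a ha n (hNA hn)
      calc a * (n⁻¹ * z * n⁻¹⁻¹) * a⁻¹ = (a * n⁻¹) * z * (n * a⁻¹) := by group
        _ = _ := by rw [hc.inv_right.eq, ← (hc.inv_left).eq]; group)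
  -- the configuration
  set K' := K.subgroupOf S with hK'
  set N' := N.subgroupOf S with hN'
  have hcent : ∀ x : S, x ∈ Subgroup.centralizer (K' : Set S) ↔ (x : G) ∈ Subgroup.centralizer (K : Set G) := by
    intro x
    rw [Subgroup.mem_centralizer_iff, Subgroup.mem_centralizer_iff]
    exact ⟨fun h y hy => congrArg Subtype.val (h ⟨y, hKS hy⟩ hy), fun h y hy => Subtype.ext (h y hy)⟩
  have hnorm : ∀ x : S, (x : G) ∈ Subgroup.normalizer (K : Set G) → x ∈ Subgroup.normalizer (K' : Set S) :=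
    fun x hx => Subgroup.mem_normalizer_iff.2 fun y => Subgroup.mem_normalizer_iff.1 hx y
  set ψ := restr φ M with hψ
  have hquad' : ∀ n : S, (n : G) ∈ N → ∀ m : S, (m : G) ∈ A → (ψ n - 1) * (ψ m - 1) = 0 := fun n hn m hm =>
    AddMonoidHom.ext fun v => Subtype.ext (DFunLike.congr_fun (hquad _ hn _ hm) (v : V))
  have C : Conf ψ K' N' ⟨a, haS⟩ :=
    { two := fun m => Subtype.ext (hV m)
      qs := hK.subgroupOf hKS
      ne := by
        obtain ⟨v, hv, hv0⟩ := hMne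
        refine ⟨⟨k₀, hKS hk₀⟩, hk₀, fun h => hv0 (hV₁fix v hv.1 (hsa.fix_eq hV hK hk₀ hk₀c hk₀o ?_))⟩
        exact congrArg Subtype.val (DFunLike.congr_fun h ⟨v, hv⟩)
      aa := Subtype.ext (hsq a ha)
      comm := fun x hx y hy => Subtype.ext (hsa.comm x hx y hy).eq
      fpf := fun k hk hkc hodd v hv => Subtype.ext (hV₁fix v v.2.1 (hsa.fix_eq hV hK hk
        (fun h => hkc ((hcent k).2 h)) ((orderOf_injective S.subtype S.subtype_injective k).symm ▸ hodd) (congrArg Subtype.val hv)))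
      ztriv := fun z hz hzc hzo => AddMonoidHom.ext fun v => Subtype.ext (v.2.2 _
        (Or.inl ⟨hz, (hcent z).1 hzc, (orderOf_injective S.subtype S.subtype_injective z).symm ▸ hzo⟩))
      nsq := fun n hn => Subtype.ext (hsq _ (hNA hn))
      ncomm := fun n hn m hm => Subtype.ext (hab _ (hNA hn) _ (hNA hm)).eq
      na := fun n hn => Subtype.ext (hab _ (hNA hn) a ha).eq
      nnorm := fun n hn => hnorm n (hNn hn)
      nfaith := fun n hn hn1 h => hfaith _ hn (fun h1 => hn1 (Subtype.ext h1)) ((hcent n).1 h)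
      quad := fun n hn m hm => hquad' n hn m (hNA hm) }
  have hN'ne : N' ≠ ⊥ := fun h => by
    have : (⟨n₁, hNS n₁ hn₁⟩ : S) ∈ N' := hn₁
    rw [h, Subgroup.mem_bot] at this
    exact hn₁1 (congrArg Subtype.val this)
  have hNc : Nat.card N' = Nat.card N :=
    Nat.card_congr (Subgroup.subgroupOfEquivOfLe (fun n hn => hNS n hn)).toEquiv
  -- pass to the module
  have hpass : ∀ (c : ℕ) (T : Set G) (T' : Set S), Nat.card V ≤ c * Nat.card (fixSet φ T) →
      (∀ s ∈ T', ∀ v ∈ fixSet φ T, φ (s : G) v = v) →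
      Nat.card M ≤ c * Nat.card (fixSet ψ T') := by
    intro c T T' hc hT
    have h1 : Nat.card ↥(M ⊓ fixSet φ T) ≤ Nat.card (fixSet ψ T') := by
      refine Nat.card_le_card_of_injective (fun v : ↥(M ⊓ fixSet φ T) =>
        (⟨⟨v, v.2.1⟩, fun s hs => Subtype.ext (hT s hs v v.2.2)⟩ : fixSet ψ T')) fun x y h =>
        Subtype.ext (congrArg (fun z : fixSet ψ T' => ((z : M) : V)) h)
    have h2 := card_inf_mul_sup M (fixSet φ T)
    have h3 : Nat.card ↥(M ⊔ fixSet φ T) ≤ Nat.card V :=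
      Nat.le_of_dvd Nat.card_pos (AddSubgroup.card_addSubgroup_dvd_card _)
    refine Nat.le_of_mul_le_mul_right ?_ (Nat.card_pos (α := fixSet φ T))
    rw [h2]
    calc Nat.card ↥(M ⊔ fixSet φ T) * Nat.card ↥(M ⊓ fixSet φ T)
        ≤ Nat.card V * Nat.card (fixSet ψ T') := Nat.mul_le_mul h3 h1
      _ ≤ c * Nat.card (fixSet φ T) * Nat.card (fixSet ψ T') := Nat.mul_le_mul_right _ hc
      _ = _ := by ring
  refine C.absurd_of_offender hN'ne ?_
  rw [hNc]
  rcases hoff with h | ⟨hAN, h⟩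
  · exact Or.inl (hpass _ _ _ h fun s hs v hv => hv _ hs)
  · refine Or.inr ⟨fun n hn => hquad' n hn ⟨a, haS⟩ ha, hpass _ (A : Set G) _ (h.trans ?_) fun s hs v hv => ?_⟩
    · refine Nat.mul_le_mul_right _ ?_
      rw [two_mul, ← Nat.card_sum]
      refine Nat.card_le_card_of_surjective (fun s : N ⊕ N => s.elim
        (fun n : N => (⟨n, hNA n.2⟩ : A)) (fun n : N => (⟨a * n, mul_mem ha (hNA n.2)⟩ : A))) ?_
      rintro ⟨b, hb⟩
      rcases hidx hAN b hb with h1 | h1
      · exact ⟨Sum.inl ⟨b, h1⟩, rfl⟩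
      · refine ⟨Sum.inr ⟨a * b, h1⟩, Subtype.ext ?_⟩
        show a * (a * b) = b
        rw [← mul_assoc, hsq a ha, one_mul]
    · rcases hs with rfl | hs
      · exact hv a ha
      · exact hv _ (hNA hs)

end

end Cfsg.Agent.PGV
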